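import Cfsg.Agent.Lib.TwoTransSp.Centre
import Cfsg.Agent.Lib.GeomClasses.Symp

/-!
A centre carrying all transvections forces the whole symplectic group.
-/

set_option autoImplicit false
set_option linter.unusedSectionVars false
set_option linter.unusedSimpArgs false

namespace CfsgLib.TwoTransSp

variable {ι : Type} [Fintype ι] [DecidableEq ι] {F : Type*} [Field F] [CharP F 2]
  {B : LinearMap.BilinForm F (ι → F)} {L : Subgroup (GL ι F)}

/-- The vectors `z` with `B z a = 1` are the images of `b` under the radical of `a`. -/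
theorem Alt.eq_image (hB : Alt B) {a b z : ι → F} (hab : B a b = 1) (hz : B z a = 1) :
    ap (sv B a (proj B a b z) (B z b)) b = z := by
  have hba : B b a = 1 := by rw [hB.comm]; exact hab
  rw [ap_sv hB (hB.proj_perp hab z).1, hba, (hB.proj_perp hab z).2, mul_one, one_smul, zero_smul,
    add_zero, proj_apply, hz, one_smul]
  funext i
  simp only [Pi.add_apply, Pi.smul_apply, smul_eq_mul]
  linear_combination (b i + B z b * a i) * CharTwo.two_eq_zero (R := F)

theorem Setup.mem_of_all (hS : Setup B L) {a : ι → F} (ha : Full B L a)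
    (hall : ∀ c, sv B a 0 c ∈ L) {g : GL ι F} (hg : Iso B g) : g ∈ L := by
  have hB := hS.alt
  obtain ⟨h₀, hh₀, s, hs, hab⟩ := hS.exists_orbit_partner ha.1
  set b := s • ap h₀ a with hbdef
  have hba : B b a = 1 := by rw [hB.comm]; exact hab
  have hb : Full B L b := (ha.map hS hh₀).smul hS hs
  let S : (ι → F) → Prop := fun z => ∀ c, sv B z 0 c ∈ L
  have Ssmul : ∀ {z : ι → F} (t : F), S z → S (t • z) := fun {z} t hz c => by
    rw [sv_smul_left hB (by simp), smul_zero]; exact hz _
  have Smap : ∀ {z : ι → F} {h : GL ι F}, h ∈ L → S z → S (ap h z) := fun {z h} hh hz c => by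
    simpa using hS.conj_mem hh (by simp) (hz c)
  have hSb : S b := Ssmul s (Smap hh₀ hall)
  have rad : ∀ {z : ι → F}, Full B L z → S z → ∀ v c, B z v = 0 → sv B z v c ∈ L := by
    intro z hz hSz v c hv
    obtain ⟨c₀, hc₀⟩ := hz.2 v hv
    have := mul_mem hc₀ (hSz (c₀ + c))
    rwa [sv_mul hB hv (by simp), add_zero, map_zero, add_zero, ← add_assoc,
      CharTwo.add_self_eq_zero, zero_add] at this
  have reach : ∀ {p q : ι → F}, Full B L p → S p → S q → B p q = 1 → ∀ z, B z p ≠ 0 → S z := by
    intro p q hp hSp hSq hpq z hz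
    have h1 : B ((B z p)⁻¹ • z) p = 1 := by simp [hz]
    have h2 := Smap (rad hp hSp (proj B p q ((B z p)⁻¹ • z)) (B ((B z p)⁻¹ • z) q)
      (hB.proj_perp hpq _).1) hSq
    rw [hB.eq_image hpq h1] at h2
    have h3 := Ssmul (B z p) h2
    rwa [smul_smul, mul_inv_cancel₀ hz, one_smul] at h3
  have Sall : ∀ z, S z := by
    intro z
    rcases eq_or_ne z 0 with rfl | hz0
    · intro c
      rw [show sv B (0 : ι → F) 0 c = 1 from ext_ap fun x => by
        simp [ap_sv hB (show B (0 : ι → F) 0 = 0 by simp)]]
      exact one_mem _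
    by_cases hza : B z a ≠ 0
    · exact reach ha hall hSb hab z hza
    by_cases hzb : B z b ≠ 0
    · exact reach hb hSb hall hba z hzb
    push Not at hza hzb
    have h1 : S (z + a) := reach hb hSb hall hba _ (by simp [hzb, hab])
    obtain ⟨u, hu0, hu1⟩ := hB.exists_zero_one (a := a) (z := z) fun t ht => hz0 (by
      have : t = 0 := by rw [ht] at hzb; simpa [hab] using hzb
      rw [ht, this, zero_smul])
    have h2 := Smap (rad ha hall u 0 hu0) h1
    rw [ap_sv hB hu0] at h2
    convert h2 using 1
    simp [hza, hB.self, hu0, hu1]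
    rw [add_assoc, two_smul_eq_zero, add_zero]
  -- transvections generate
  let f : (ι → F) → (ι → F) → F := fun u v => B u v
  have hf : Cfsg.Geo.IsSymplecticForm f :=
    { bilinear := ⟨fun x y v => by simp [f], fun c x v => by simp [f], fun v x y => by simp [f],
        fun c v x => by simp [f]⟩
      skew := fun v w => by
        show B v w = -B w v
        rw [CharTwo.neg_eq, hB.comm]
      alternating := hB.self
      nondegenerate := by
        intro v hv
        obtain ⟨y, hy⟩ := hB.exists_one hv
        exact ⟨⟨y, by simp [f, hB.comm y v, hy]⟩, y, by simp [f, hy]⟩ }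
  refine CfsgLib.GeomClasses.Symp.isometry_mem_of_formTv_mem hf (fun v c => ?_) hg
  convert Sall v c using 1
  refine ext_ap fun x => ?_
  rw [ap_apply, (CfsgLib.GeomClasses.Symp.sesq hf).formTv_mulVec (hB.self v) c x,
    ap_sv hB (by simp)]
  simp [f]

end CfsgLib.TwoTransSp
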