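import Mathlib

/-!
The unipotent elements `x ↦ x + B(x,z) v + B(x,v) z + c B(x,z) z` of the stabiliser of a vector `z`
in a symplectic group in characteristic two.
-/

set_option autoImplicit false
set_option linter.unusedSectionVars false
set_option linter.unusedSimpArgs false

namespace CfsgLib.TwoTransSp

open Matrix

variable {ι : Type} [Fintype ι] [DecidableEq ι] {F : Type*} [Field F] [CharP F 2]

/-- The action of an invertible matrix on a vector. -/
def ap (g : GL ι F) : (ι → F) →ₗ[F] (ι → F) := Matrix.mulVecLin (g : Matrix ι ι F)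

theorem ap_apply (g : GL ι F) (x : ι → F) : ap g x = (g : Matrix ι ι F) *ᵥ x := rfl

@[simp] theorem ap_one (x : ι → F) : ap (1 : GL ι F) x = x := by simp [ap_apply]

@[simp] theorem ap_mul (g h : GL ι F) (x : ι → F) : ap (g * h) x = ap g (ap h x) := by
  simp [ap_apply]

@[simp] theorem ap_inv_ap (g : GL ι F) (x : ι → F) : ap g⁻¹ (ap g x) = x := by
  rw [← ap_mul]; simp

@[simp] theorem ap_ap_inv (g : GL ι F) (x : ι → F) : ap g (ap g⁻¹ x) = x := by
  rw [← ap_mul]; simp

theorem ext_ap {g h : GL ι F} (H : ∀ x, ap g x = ap h x) : g = h :=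
  Units.ext (Matrix.ext_of_mulVec_single fun _ => H _)

theorem ap_injective (g : GL ι F) : Function.Injective (ap g) :=
  Function.LeftInverse.injective (ap_inv_ap g)

/-- `B` is alternating and non-degenerate. -/
structure Alt (B : LinearMap.BilinForm F (ι → F)) : Prop where
  self : ∀ x, B x x = 0
  nd : ∀ x, (∀ y, B x y = 0) → x = 0

/-- `g` preserves `B`. -/
def Iso (B : LinearMap.BilinForm F (ι → F)) (g : GL ι F) : Prop :=
  ∀ x y, B (ap g x) (ap g y) = B x y

variable {B : LinearMap.BilinForm F (ι → F)}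

theorem Alt.comm (hB : Alt B) (x y : ι → F) : B x y = B y x := by
  have h := hB.self (x + y)
  simp only [map_add, LinearMap.add_apply, hB.self, zero_add, add_zero] at h
  exact (CharTwo.add_eq_zero.1 h).symm

theorem Alt.exists_one (hB : Alt B) {a : ι → F} (ha : a ≠ 0) : ∃ b, B a b = 1 := by
  by_contra hc
  push Not at hc
  refine ha (hB.nd a fun y => ?_)
  by_contra hy
  exact hc ((B a y)⁻¹ • y) (by simp [hy])

theorem Alt.exists_zero_one (hB : Alt B) {a z : ι → F} (hz : ∀ t : F, z ≠ t • a) :
    ∃ u, B a u = 0 ∧ B z u = 1 := by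
  by_cases ha : a = 0
  · obtain ⟨u, hu⟩ := hB.exists_one (a := z) (by simpa using hz 0)
    exact ⟨u, by simp [ha], hu⟩
  obtain ⟨u₀, hu₀⟩ := hB.exists_one ha
  by_contra hc
  push Not at hc
  apply hz (B z u₀)
  rw [← sub_eq_zero]
  refine hB.nd _ fun u => ?_
  have h0 : B z (u - B a u • u₀) = 0 := by
    by_contra hne
    refine hc ((B z (u - B a u • u₀))⁻¹ • (u - B a u • u₀)) ?_ ?_
    · simp [hu₀]
    · rw [map_smul, smul_eq_mul, inv_mul_cancel₀ hne]
  simp only [map_sub, map_smul, smul_eq_mul, LinearMap.sub_apply, LinearMap.smul_apply] at h0 ⊢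
  linear_combination h0

/-- A vector orthogonal to two independent vectors and pairing to `1` with a third one. -/
theorem Alt.exists_zero_zero_one (hB : Alt B) {a z v : ι → F} (hz : ∀ t : F, z ≠ t • a)
    (ha : a ≠ 0) (hv : ∀ s t : F, v ≠ s • a + t • z) :
    ∃ u, B a u = 0 ∧ B z u = 0 ∧ B v u = 1 := by
  obtain ⟨uz, hz0, hz1⟩ := hB.exists_zero_one hz
  obtain ⟨ua, ha0, ha1⟩ := hB.exists_zero_one (a := z) (z := a) fun t ht => by
    rcases eq_or_ne t 0 with rfl | h0
    · exact ha (by simpa using ht)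
    · exact hz t⁻¹ (by rw [ht, smul_smul, inv_mul_cancel₀ h0, one_smul])
  by_contra hc
  push Not at hc
  apply hv (B v ua) (B v uz)
  rw [← sub_eq_zero]
  refine hB.nd _ fun u => ?_
  set u' := u - B a u • ua - B z u • uz with hu'
  have h1 : B a u' = 0 := by simp [hu', ha1, hz0]
  have h2 : B z u' = 0 := by simp [hu', ha0, hz1]
  have h0 : B v u' = 0 := by
    by_contra hne
    exact hc ((B v u')⁻¹ • u') (by simp [h1]) (by simp [h2]) (by
      rw [map_smul, smul_eq_mul, inv_mul_cancel₀ hne])
  simp only [hu', map_sub, map_smul, smul_eq_mul] at h0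
  simp only [LinearMap.sub_apply, LinearMap.add_apply, LinearMap.smul_apply, map_sub,
    map_add, map_smul, smul_eq_mul]
  linear_combination h0

/-- The projection on the orthogonal of a hyperbolic pair. -/
def proj (B : LinearMap.BilinForm F (ι → F)) (a b : ι → F) : (ι → F) →ₗ[F] (ι → F) :=
  LinearMap.id + (B.flip b).smulRight a + (B.flip a).smulRight b

theorem proj_apply (a b x : ι → F) : proj B a b x = x + B x b • a + B x a • b := by
  simp [proj]

theorem Alt.proj_perp (hB : Alt B) {a b : ι → F} (hab : B a b = 1) (x : ι → F) :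
    B a (proj B a b x) = 0 ∧ B b (proj B a b x) = 0 := by
  have hba : B b a = 1 := by rw [hB.comm]; exact hab
  simp [proj_apply, hB.self, hab, hba, hB.comm x, CharTwo.add_self_eq_zero]

theorem Alt.exists_perp_pair (hB : Alt B) (h4 : 4 ≤ Fintype.card ι) (a b : ι → F)
    (hab : B a b = 1) : ∃ u, u ≠ 0 ∧ B a u = 0 ∧ B b u = 0 := by
  classical
  obtain ⟨w, -, hw⟩ := SetLike.exists_of_lt (show Submodule.span F ({a, b} : Set (ι → F)) < ⊤ by
    refine Ne.lt_top fun h => ?_
    have h1 := finrank_span_finset_le_card (R := F) ({a, b} : Finset (ι → F))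
    rw [Set.finrank, Finset.coe_pair, h, finrank_top, Module.finrank_fintype_fun_eq_card] at h1
    have := Finset.card_le_two (a := a) (b := b)
    omega)
  refine ⟨proj B a b w, fun h => hw ?_, hB.proj_perp hab w⟩
  rw [proj_apply, add_assoc] at h
  rw [show w = B w b • a + B w a • b from funext fun i => CharTwo.add_eq_zero.1 (congrFun h i)]
  exact Submodule.add_mem _ (Submodule.smul_mem _ _ (Submodule.subset_span (by simp)))
    (Submodule.smul_mem _ _ (Submodule.subset_span (by simp)))

theorem Iso.mul {g h : GL ι F} (hg : Iso B g) (hh : Iso B h) : Iso B (g * h) := fun x y => by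
  rw [ap_mul, ap_mul, hg, hh]

theorem Iso.inv {g : GL ι F} (hg : Iso B g) : Iso B g⁻¹ := fun x y => by
  conv_rhs => rw [← ap_ap_inv g x, ← ap_ap_inv g y, hg]

/-! ### The elements `sv z v c` -/

/-- `x ↦ x + B(x,z) v + B(x,v) z + c B(x,z) z` -/
def svMap (B : LinearMap.BilinForm F (ι → F)) (z v : ι → F) (c : F) :
    (ι → F) →ₗ[F] (ι → F) :=
  LinearMap.id + (B.flip z).smulRight v + (B.flip v).smulRight z + (c • B.flip z).smulRight z

theorem svMap_apply (z v : ι → F) (c : F) (x : ι → F) :
    svMap B z v c x = x + B x z • v + B x v • z + (c * B x z) • z := by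
  simp [svMap]

open scoped Classical in
/-- `svMap` as an invertible matrix (the identity when it is not an involution). -/
noncomputable def sv (B : LinearMap.BilinForm F (ι → F)) (z v : ι → F) (c : F) : GL ι F :=
  if h : (svMap B z v c).comp (svMap B z v c) = LinearMap.id then
    ⟨LinearMap.toMatrix' (svMap B z v c), LinearMap.toMatrix' (svMap B z v c),
      by rw [← LinearMap.toMatrix'_comp, h, LinearMap.toMatrix'_id],
      by rw [← LinearMap.toMatrix'_comp, h, LinearMap.toMatrix'_id]⟩
  else 1

theorem two_smul_eq_zero (x : ι → F) : x + x = 0 :=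
  funext fun i => CharTwo.add_self_eq_zero (x i)

theorem sub_eq_add' (x y : ι → F) : x - y = x + y :=
  funext fun i => CharTwo.sub_eq_add (x i) (y i)

theorem svMap_svMap (hB : Alt B) {z v : ι → F} (hzv : B z v = 0) (c : F) (x : ι → F) :
    svMap B z v c (svMap B z v c x) = x := by
  have hvz : B v z = 0 := by rw [hB.comm]; exact hzv
  simp only [svMap_apply, map_add, map_smul, LinearMap.add_apply, LinearMap.smul_apply, hB.self,
    hzv, hvz, smul_eq_mul, mul_zero, add_zero, zero_add]
  funext i
  simp only [Pi.add_apply, Pi.smul_apply, smul_eq_mul]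
  linear_combination (B x z * v i + B x v * z i + c * B x z * z i) * CharTwo.two_eq_zero (R := F)

variable (hB : Alt B)
include hB

theorem ap_sv {z v : ι → F} (hzv : B z v = 0) (c : F) (x : ι → F) :
    ap (sv B z v c) x = x + B x z • v + B x v • z + (c * B x z) • z := by
  rw [sv, dif_pos (LinearMap.ext (svMap_svMap hB hzv c)), ← svMap_apply]
  exact LinearMap.toMatrix'_mulVec _ x

theorem ap_sv_self {z v : ι → F} (hzv : B z v = 0) (c : F) : ap (sv B z v c) z = z := by
  simp [ap_sv hB hzv, hB.self, hzv]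

theorem sv_mul {z v w : ι → F} (hv : B z v = 0) (hw : B z w = 0) (c d : F) :
    sv B z v c * sv B z w d = sv B z (v + w) (c + d + B v w) := by
  refine ext_ap fun x => ?_
  have hvz : B v z = 0 := by rw [hB.comm]; exact hv
  have hwz : B w z = 0 := by rw [hB.comm]; exact hw
  have hvw : B z (v + w) = 0 := by simp [hv, hw]
  simp only [ap_mul, ap_sv hB hv, ap_sv hB hw, ap_sv hB hvw, map_add, map_smul,
    LinearMap.add_apply, LinearMap.smul_apply, hB.self, hv, hw, hvz, hwz, smul_eq_mul, mul_zero,
    add_zero, hB.comm w v]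
  module

theorem sv_zero (z : ι → F) : sv B z 0 0 = 1 :=
  ext_ap fun x => by simp [ap_sv hB (show B z 0 = 0 by simp)]

theorem sv_mul_self {z v : ι → F} (hv : B z v = 0) (c : F) : sv B z v c * sv B z v c = 1 := by
  rw [sv_mul hB hv hv, two_smul_eq_zero, hB.self, CharTwo.add_self_eq_zero, add_zero, sv_zero hB]

theorem sv_inv {z v : ι → F} (hv : B z v = 0) (c : F) : (sv B z v c)⁻¹ = sv B z v c :=
  inv_eq_of_mul_eq_one_left (sv_mul_self hB hv c)

theorem sv_add_smul {z v : ι → F} (hv : B z v = 0) (t c : F) :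
    sv B z (v + t • z) c = sv B z v c := by
  refine ext_ap fun x => ?_
  rw [ap_sv hB (by simp [hv, hB.self]), ap_sv hB hv]
  funext i
  simp only [map_add, map_smul, Pi.add_apply, Pi.smul_apply, smul_eq_mul]
  linear_combination (t * B x z * z i) * CharTwo.two_eq_zero (R := F)

theorem sv_smul_left {z v : ι → F} (hv : B z v = 0) (t c : F) :
    sv B (t • z) v c = sv B z (t • v) (t * t * c) := by
  refine ext_ap fun x => ?_
  rw [ap_sv hB (by simp [hv]), ap_sv hB (by simp [hv])]
  simp only [map_smul, smul_eq_mul, smul_smul]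
  module

theorem sv_swap {z v : ι → F} (hv : B z v = 0) : sv B z v 0 = sv B v z 0 := by
  refine ext_ap fun x => ?_
  rw [ap_sv hB hv, ap_sv hB (by rw [hB.comm]; exact hv)]
  module

theorem iso_sv {z v : ι → F} (hv : B z v = 0) (c : F) : Iso B (sv B z v c) := fun x y => by
  have hvz : B v z = 0 := by rw [hB.comm]; exact hv
  simp only [ap_sv hB hv, map_add, map_smul, LinearMap.add_apply, LinearMap.smul_apply, hB.self,
    hv, hvz, smul_eq_mul, mul_zero, add_zero, hB.comm z y, hB.comm v y]
  linear_combination (B x z * B y v + B x v * B y z + c * B x z * B y z) *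
    CharTwo.two_eq_zero (R := F)

theorem conj_sv {h : GL ι F} (hh : Iso B h) {z v : ι → F} (hv : B z v = 0) (c : F) :
    h * sv B z v c * h⁻¹ = sv B (ap h z) (ap h v) c := by
  refine ext_ap fun x => ?_
  rw [ap_mul, ap_mul, ap_sv hB hv, ap_sv hB (by rw [hh]; exact hv)]
  have e : ∀ y, B (ap h⁻¹ x) y = B x (ap h y) := fun y => by
    conv_rhs => rw [← ap_ap_inv h x, hh]
  simp only [map_add, map_smul, ap_ap_inv, e]

omit hB

end CfsgLib.TwoTransSp
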