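import Cfsg.Agent.Lib.TwoTransSp.Basic

/-!
Subgroups containing a complement of the transvection group in the unipotent radical of a point
stabiliser: either some centre carries all transvections, or none carries any.
-/

set_option autoImplicit false
set_option linter.unusedSectionVars false
set_option linter.unusedSimpArgs false

namespace CfsgLib.TwoTransSp

variable {ι : Type} [Fintype ι] [DecidableEq ι] {F : Type*} [Field F] [CharP F 2]

/-- An irreducible group of isometries. -/
structure Setup (B : LinearMap.BilinForm F (ι → F)) (L : Subgroup (GL ι F)) : Prop where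
  alt : Alt B
  iso : ∀ h ∈ L, Iso B h
  irr : ∀ W : Submodule F (ι → F), (∀ h ∈ L, ∀ w ∈ W, ap h w ∈ W) → W = ⊥ ∨ W = ⊤

/-- `L` contains a full set of representatives modulo the transvections with centre `z`. -/
def Full (B : LinearMap.BilinForm F (ι → F)) (L : Subgroup (GL ι F)) (z : ι → F) : Prop :=
  z ≠ 0 ∧ ∀ v, B z v = 0 → ∃ c, sv B z v c ∈ L

variable {B : LinearMap.BilinForm F (ι → F)} {L : Subgroup (GL ι F)}

theorem Setup.conj_mem (hS : Setup B L) {h : GL ι F} (hh : h ∈ L) {z v : ι → F} {c : F}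
    (hv : B z v = 0) (hm : sv B z v c ∈ L) : sv B (ap h z) (ap h v) c ∈ L := by
  rw [← conj_sv hS.alt (hS.iso h hh) hv]
  exact mul_mem (mul_mem hh hm) (inv_mem hh)

theorem Full.map (hS : Setup B L) {z : ι → F} (hz : Full B L z) {h : GL ι F} (hh : h ∈ L) :
    Full B L (ap h z) := by
  refine ⟨fun h0 => hz.1 (ap_injective h (by rw [h0, map_zero])), fun v hv => ?_⟩
  have hv' : B z (ap h⁻¹ v) = 0 := by
    rw [← hS.iso h hh, ap_ap_inv]; exact hv
  obtain ⟨c, hc⟩ := hz.2 _ hv'
  exact ⟨c, by simpa using hS.conj_mem hh hv' hc⟩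

theorem Full.smul (hS : Setup B L) {z : ι → F} (hz : Full B L z) {t : F} (ht : t ≠ 0) :
    Full B L (t • z) := by
  refine ⟨smul_ne_zero ht hz.1, fun v hv => ?_⟩
  have hv' : B z v = 0 := by simpa [ht] using hv
  obtain ⟨c, hc⟩ := hz.2 (t • v) (by simp [hv'])
  refine ⟨c / (t * t), ?_⟩
  rwa [sv_smul_left hS.alt hv', mul_div_cancel₀ _ (mul_ne_zero ht ht)]

theorem Full.add_centre (hS : Setup B L) {a z : ι → F} (hz : Full B L z) {v : ι → F} {c : F}
    (hv : B a v = 0) (hm : sv B a v c ∈ L) :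
    Full B L (z + B z a • v + B z v • a + (c * B z a) • a) := by
  have h := hz.map hS hm
  rwa [ap_sv hS.alt hv] at h

/-- Some element of `L` maps `z` outside its orthogonal, and rescales to pairing one. -/
theorem Setup.exists_orbit_partner (hS : Setup B L) {z : ι → F} (hz : z ≠ 0) :
    ∃ h ∈ L, ∃ s : F, s ≠ 0 ∧ B z (s • ap h z) = 1 := by
  by_contra hc
  push Not at hc
  set W := Submodule.span F {x | ∃ h ∈ L, ap h z = x}
  have hinv : ∀ h ∈ L, ∀ w ∈ W, ap h w ∈ W := by
    intro h hh w hw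
    induction hw using Submodule.span_induction with
    | mem x hx =>
      obtain ⟨k, hk, rfl⟩ := hx
      exact Submodule.subset_span ⟨h * k, mul_mem hh hk, ap_mul h k z⟩
    | zero => simp
    | add x y _ _ hx hy => rw [map_add]; exact W.add_mem hx hy
    | smul t x _ hx => rw [map_smul]; exact W.smul_mem t hx
  rcases hS.irr W hinv with h | h
  · have : z ∈ W := Submodule.subset_span ⟨1, one_mem _, ap_one z⟩
    rw [h, Submodule.mem_bot] at this
    exact hz this
  · refine hz (hS.alt.nd z fun y => ?_)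
    have hy : y ∈ W := h ▸ Submodule.mem_top
    induction hy using Submodule.span_induction with
    | mem x hx =>
      obtain ⟨k, hk, rfl⟩ := hx
      by_contra hne
      exact hc k hk (B z (ap k z))⁻¹ (inv_ne_zero hne) (by simp [hne])
    | zero => simp
    | add x y _ _ hx hy => simp [hx, hy]
    | smul t x _ hx => simp [hx]

/-- Two orthogonal independent centres give a torus element on their plane. -/
theorem Setup.exists_torus (hS : Setup B L) {a z : ι → F} (ha : Full B L a) (hz : Full B L z)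
    (haz : B a z = 0) (hind : ∀ t : F, z ≠ t • a) {t : F} (ht : t ≠ 0) :
    ∃ h ∈ L, ap h a = t • a ∧ ap h z = t⁻¹ • z := by
  have hind' : ∀ s : F, a ≠ s • z := fun s hs => by
    rcases eq_or_ne s 0 with rfl | h0
    · exact ha.1 (by simpa using hs)
    · exact hind s⁻¹ (by rw [hs, smul_smul, inv_mul_cancel₀ h0, one_smul])
  have hza : B z a = 0 := by rw [hS.alt.comm]; exact haz
  have up : ∀ r : F, ∃ g ∈ L, ap g a = a ∧ ap g z = z + r • a := by
    intro r
    obtain ⟨u, hu0, hu1⟩ := hS.alt.exists_zero_one hind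
    have hru : B a (r • u) = 0 := by simp [hu0]
    obtain ⟨c, hc⟩ := ha.2 _ hru
    exact ⟨_, hc, ap_sv_self hS.alt hru c, by simp [ap_sv hS.alt hru, hza, hu1]⟩
  have dn : ∀ r : F, ∃ g ∈ L, ap g z = z ∧ ap g a = a + r • z := by
    intro r
    obtain ⟨u, hu0, hu1⟩ := hS.alt.exists_zero_one hind'
    have hru : B z (r • u) = 0 := by simp [hu0]
    obtain ⟨c, hc⟩ := hz.2 _ hru
    exact ⟨_, hc, ap_sv_self hS.alt hru c, by simp [ap_sv hS.alt hru, haz, hu1]⟩
  obtain ⟨g₁, h₁, a₁, z₁⟩ := up (t + 1)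
  obtain ⟨g₂, h₂, z₂, a₂⟩ := dn 1
  obtain ⟨g₃, h₃, a₃, z₃⟩ := up (t⁻¹ + 1)
  obtain ⟨g₄, h₄, z₄, a₄⟩ := dn t
  refine ⟨g₁ * g₂ * g₃ * g₄, mul_mem (mul_mem (mul_mem h₁ h₂) h₃) h₄, ?_, ?_⟩
  · simp only [ap_mul, a₄, map_add, map_smul, a₃, z₃, a₂, z₂, a₁, z₁]
    funext i
    simp only [Pi.add_apply, Pi.smul_apply, smul_eq_mul]
    rw [← CharTwo.add_eq_zero]
    field_simp
    ring_nf
    simp [CharTwo.two_eq_zero, show (4 : F) = 0 by linear_combination 2 * CharTwo.two_eq_zero (R := F),
      show (6 : F) = 0 by linear_combination 3 * CharTwo.two_eq_zero (R := F)]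
  · simp only [ap_mul, z₄, map_add, map_smul, a₃, z₃, a₂, z₂, a₁, z₁]
    funext i
    simp only [Pi.add_apply, Pi.smul_apply, smul_eq_mul]
    rw [← CharTwo.add_eq_zero]
    field_simp
    ring_nf
    simp [CharTwo.two_eq_zero, show (4 : F) = 0 by linear_combination 2 * CharTwo.two_eq_zero (R := F),
      show (6 : F) = 0 by linear_combination 3 * CharTwo.two_eq_zero (R := F)]

theorem sq_add_one_ne_zero {t : F} (ht : t ≠ 1) : t * t + 1 ≠ 0 := fun h => ht (by
  have h2 : (t + 1) * (t + 1) = 0 := by linear_combination h + t * CharTwo.two_eq_zero (R := F)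
  exact CharTwo.add_eq_zero.1 (mul_self_eq_zero.1 h2))

theorem Setup.torus_step (hS : Setup B L) {a z : ι → F} (ha : Full B L a) (hz : Full B L z)
    (haz : B a z = 0) (hind : ∀ t : F, z ≠ t • a) {t s c : F} (ht0 : t ≠ 0)
    (hm : sv B a (s • z) c ∈ L) : sv B a 0 ((t * t + 1) * c) ∈ L := by
  obtain ⟨h, hh, h1, h2⟩ := hS.exists_torus ha hz haz hind ht0
  have hv : B a (s • z) = 0 := by simp [haz]
  have h3 := hS.conj_mem hh hv hm
  rw [h1, map_smul, h2, sv_smul_left hS.alt (by simp [haz])] at h3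
  have e : t • s • t⁻¹ • z = s • z := by
    rw [smul_smul, smul_smul]; congr 1; field_simp
  rw [e] at h3
  have h4 := mul_mem h3 hm
  rw [sv_mul hS.alt hv hv, two_smul_eq_zero, hS.alt.self, add_zero] at h4
  convert h4 using 2
  ring

/-- The transvection group of a centre lies in `L` or meets it trivially. -/
theorem Setup.dichotomy [Fintype F] (hS : Setup B L) (h4 : 4 ≤ Fintype.card ι) {a : ι → F} (ha : Full B L a) :
    (∀ c, sv B a 0 c ∈ L) ∨ ∀ c, sv B a 0 c ∈ L → c = 0 := by
  classical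
  refine or_iff_not_imp_right.2 fun hne => ?_
  push Not at hne
  obtain ⟨d, hd, hd0⟩ := hne
  have hB := hS.alt
  by_cases hq : ∃ t : F, t ≠ 0 ∧ t ≠ 1
  swap
  · push Not at hq
    intro c
    rcases eq_or_ne c 0 with rfl | hc
    · rw [sv_zero hB]; exact one_mem _
    · rwa [hq c hc, ← hq d hd0]
  obtain ⟨h₀, hh₀, s, hs, hab⟩ := hS.exists_orbit_partner ha.1
  set b := s • ap h₀ a with hbdef
  have hb : Full B L b := (ha.map hS hh₀).smul hS hs
  have hbd : sv B b 0 (d / (s * s)) ∈ L := by
    have h1 : sv B (ap h₀ a) 0 d ∈ L := by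
      simpa using hS.conj_mem hh₀ (by simp) hd
    rwa [hbdef, sv_smul_left hB (by simp), smul_zero, mul_div_cancel₀ _ (mul_ne_zero hs hs)]
  set d' := d / (s * s)
  have hd' : d' ≠ 0 := div_ne_zero hd0 (mul_ne_zero hs hs)
  have hba : B b a = 1 := by rw [hB.comm]; exact hab
  obtain ⟨u, hu0, hau, hbu⟩ := hB.exists_perp_pair h4 a b hab
  -- a nonzero multiple of `u` with trivial scalar for the centre `b`
  have hbsu : ∀ r : F, B b (r • u) = 0 := fun r => by simp [hbu]
  choose f hf using fun r : F => hb.2 _ (hbsu r)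
  obtain ⟨x, y, hxy, hF⟩ := Fintype.exists_ne_map_eq_of_card_lt
    (fun p : F × Fin 2 => f p.1 + (if p.2 = 0 then 0 else d')) (by
      rw [Fintype.card_prod, Fintype.card_fin]
      have := Fintype.card_pos (α := F)
      omega)
  have hne1 : x.1 + y.1 ≠ 0 := by
    intro h
    rw [CharTwo.add_eq_zero] at h
    obtain ⟨x1, x2⟩ := x
    obtain ⟨y1, y2⟩ := y
    obtain rfl := h
    simp only [add_right_inj] at hF
    fin_cases x2 <;> fin_cases y2 <;> simp_all
  have hm : ∀ p : F × Fin 2, sv B b (p.1 • u) (f p.1 + if p.2 = 0 then 0 else d') ∈ L := by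
    intro p
    split_ifs
    · rw [add_zero]; exact hf _
    · have := mul_mem (hf p.1) hbd
      rwa [sv_mul hB (hbsu _) (by simp), add_zero, map_zero, add_zero] at this
  set w := (x.1 + y.1) • u with hwdef
  have hw0 : w ≠ 0 := smul_ne_zero hne1 hu0
  have hbw : B b w = 0 := hbsu _
  have haw : B a w = 0 := by simp [hwdef, hau]
  have hw : sv B b w 0 ∈ L := by
    have := mul_mem (hm x) (hm y)
    rw [sv_mul hB (hbsu _) (hbsu _), hF, CharTwo.add_self_eq_zero, zero_add, ← add_smul] at this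
    simpa [hB.self] using this
  -- the centre `a + w`
  have hgw : ap (sv B b w 0) a = a + w := by simp [ap_sv hB hbw, hab, haw]
  have hzf : Full B L (a + w) := by rw [← hgw]; exact ha.map hS hw
  have hzd : sv B (a + w) 0 d ∈ L := by
    have := hS.conj_mem hw (by simp) hd
    rwa [hgw, map_zero] at this
  have haz : B a (a + w) = 0 := by simp [hB.self, haw]
  have hind : ∀ t : F, a + w ≠ t • a := by
    intro t h
    have h1 : w = (t + 1) • a := by
      rw [add_smul, one_smul, ← h]
      abel_nf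
      simp [two_smul_eq_zero, two_smul]
    have h2 : B b w = t + 1 := by rw [h1]; simp [hba]
    rw [hbw] at h2
    exact hw0 (by rw [h1, ← h2, zero_smul])
  obtain ⟨t, ht0, ht1⟩ := hq
  intro c
  obtain ⟨r, hr⟩ := surjective_frobenius F 2 (c / ((t * t + 1) * d))
  rw [frobenius_def, pow_two] at hr
  obtain ⟨v, hv0, hv1⟩ := hB.exists_zero_one hind
  have hwa : B w a = 0 := by rw [hB.comm]; exact haw
  have hwv : B w v = 1 := by simpa [hv0] using hv1
  have hrv : B a (r • v) = 0 := by simp [hv0]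
  obtain ⟨e, he⟩ := ha.2 _ hrv
  have h1 : sv B (a + w + r • a) 0 d ∈ L := by
    have := hS.conj_mem he (by simp) hzd
    rw [map_zero, ap_sv hB hrv] at this
    convert this using 2
    have hza : B (a + w) a = 0 := by rw [hB.comm]; exact haz
    simp [hB.self, hwa, hv0, hwv]
  have h2 : sv B a ((d * r) • (a + w)) (d * r * r) ∈ L := by
    convert mul_mem h1 hzd using 1
    refine ext_ap fun x => ?_
    rw [ap_mul, ap_sv hB (by simp [hB.self, haw]), ap_sv hB (by simp), ap_sv hB (by simp)]
    have hza : B (a + w) a = 0 := by rw [hB.comm]; exact haz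
    simp only [map_add, map_smul, map_zero, LinearMap.add_apply, LinearMap.smul_apply, hB.self,
      hwa, haw, smul_eq_mul, zero_smul, add_zero, smul_zero]
    funext i
    simp only [Pi.add_apply, Pi.smul_apply, smul_eq_mul]
    ring_nf
    simp only [CharTwo.two_eq_zero, mul_zero, zero_mul, add_zero, zero_add]
  have h3 := hS.torus_step ha hzf haz hind ht0 h2
  convert h3 using 2
  have := sq_add_one_ne_zero ht1
  rw [mul_assoc d, hr, ← mul_assoc, mul_div_cancel₀ _ (mul_ne_zero this hd0)]

end CfsgLib.TwoTransSp
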