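import Cfsg.Agent.Lib.TwoTransSp.Pair
import Cfsg.Agent.Lib.TwoTransSp.All

/-!
The quadratic form attached to a group without transvections.
-/

set_option autoImplicit false
set_option linter.unusedSectionVars false
set_option linter.unusedSimpArgs false

namespace CfsgLib.TwoTransSp

variable {ι : Type} [Fintype ι] [DecidableEq ι] {F : Type*} [Field F] [CharP F 2]
  {B : LinearMap.BilinForm F (ι → F)} {L : Subgroup (GL ι F)}

theorem quad_add {Q : QuadraticForm F (ι → F)} (hQ : ∀ x y, QuadraticMap.polar Q x y = B x y)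
    (x y : ι → F) : Q (x + y) = Q x + Q y + B x y := by
  rw [← hQ, QuadraticMap.polar]; ring

theorem quad_smul (Q : QuadraticForm F (ι → F)) (s : F) (x : ι → F) :
    Q (s • x) = s * s * Q x := by
  rw [QuadraticMap.map_smul, smul_eq_mul]

/-- The elements `sv z v (Q v)` of a singular centre preserve `Q`. -/
theorem quad_sv {Q : QuadraticForm F (ι → F)} (hQ : ∀ x y, QuadraticMap.polar Q x y = B x y)
    (hB : Alt B) {z v : ι → F} (hz : Q z = 0) (hv : B z v = 0) (x : ι → F) :
    Q (ap (sv B z v (Q v)) x) = Q x := by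
  have hvz : B v z = 0 := by rw [hB.comm]; exact hv
  simp only [ap_sv hB hv, quad_add hQ, quad_smul, hz, map_add, map_smul, LinearMap.add_apply,
    LinearMap.smul_apply, hvz, hB.self, smul_eq_mul, mul_zero, add_zero]
  linear_combination (B x z * B x v + B x z * B x z * Q v) * CharTwo.two_eq_zero (R := F)

namespace Ctx

variable [Fintype F] (hC : Ctx B L)
include hC

theorem exists_pair_form {a b : ι → F} (ha : Full B L a) (hb : Full B L b) (hab : B a b = 1) :
    ∃ Q : QuadraticForm F (ι → F), (∀ x y, QuadraticMap.polar Q x y = B x y) ∧ Q a = 0 ∧ Q b = 0 ∧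
      (∀ v, B a v = 0 → Q v = phi B L a v) ∧ (∀ v, B b v = 0 → Q v = phi B L b v) ∧
      ∀ x, Q x = phi B L a (proj B a b x) + B x a * B x b := by
  have hB := hC.setup.alt
  have hba : B b a = 1 := by rw [hB.comm]; exact hab
  have hadd : ∀ x y, phi B L a (proj B a b (x + y)) + B (x + y) a * B (x + y) b =
      phi B L a (proj B a b x) + B x a * B x b + (phi B L a (proj B a b y) + B y a * B y b) +
        B x y := by
    intro x y
    rw [map_add, hC.phi_add ha (hB.proj_perp hab x).1 (hB.proj_perp hab y).1]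
    simp only [proj_apply, map_add, map_smul, LinearMap.add_apply, LinearMap.smul_apply, hB.self,
      hab, hba, smul_eq_mul, hB.comm a y, hB.comm b y]
    linear_combination 2 * (B x a * B y b + B x b * B y a) * CharTwo.two_eq_zero (R := F)
  let Q : QuadraticForm F (ι → F) :=
    { toFun := fun x => phi B L a (proj B a b x) + B x a * B x b
      toFun_smul := fun s x => by
        rw [map_smul, (hC.pair ha hb hab _ (hB.proj_perp hab x).1 (hB.proj_perp hab x).2).1 s]
        simp only [map_smul, LinearMap.smul_apply, smul_eq_mul]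
        ring
      exists_companion' := ⟨B, fun x y => hadd x y⟩ }
  have hQ : ∀ x, Q x = phi B L a (proj B a b x) + B x a * B x b := fun x => rfl
  refine ⟨Q, fun x y => ?_, ?_, ?_, fun v hv => ?_, fun v hv => ?_, hQ⟩
  · show Q (x + y) - Q x - Q y = B x y
    rw [hQ, hQ, hQ, hadd]
    ring
  · rw [hQ, show proj B a b a = 0 by
      simp [proj_apply, hab, hB.self, two_smul_eq_zero], hC.phi_zero ha, hB.self, zero_mul,
      add_zero]
  · rw [hQ, show proj B a b b = 0 by
      simp [proj_apply, hba, hB.self, two_smul_eq_zero], hC.phi_zero ha, hB.self, mul_zero,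
      add_zero]
  · have hva : B v a = 0 := by rw [hB.comm]; exact hv
    rw [hQ, proj_apply, hva, zero_smul, add_zero, hC.phi_shift ha hv]
    ring
  · have hvb : B v b = 0 := by rw [hB.comm]; exact hv
    rw [hQ, ← (hC.pair ha hb hab _ (hB.proj_perp hab v).1 (hB.proj_perp hab v).2).2, proj_apply,
      hvb, zero_smul, add_zero, hC.phi_shift hb hv]
    ring

/-- All centres are singular for the form of a pair. -/
theorem singular_of_pair (h4 : 4 ≤ Fintype.card ι) {a b c : ι → F} (ha : Full B L a) (hb : Full B L b) (hab : B a b = 1)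
    (hc : Full B L c) {Q : QuadraticForm F (ι → F)}
    (hQB : ∀ x y, QuadraticMap.polar Q x y = B x y) (hQa : Q a = 0) (hQb : Q b = 0)
    (hfa : ∀ v, B a v = 0 → Q v = phi B L a v) (hfb : ∀ v, B b v = 0 → Q v = phi B L b v) :
    Q c = 0 := by
  have hB := hC.setup.alt
  have hba : B b a = 1 := by rw [hB.comm]; exact hab
  by_cases hca : B a c = 0
  · rw [hfa c hca]; exact hC.phi_perp ha hc hca
  -- normalise `c`
  set c₁ := (B c a)⁻¹ • c with hc₁
  have hne : B c a ≠ 0 := by rwa [hB.comm]
  have hc₁f : Full B L c₁ := hc.smul hC.setup (inv_ne_zero hne)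
  have hc₁a : B c₁ a = 1 := by simp [hc₁, hne]
  suffices Q c₁ = 0 by
    rw [hc₁, quad_smul] at this
    simpa [hne] using this
  set v := proj B a b c₁ with hvdef
  obtain ⟨hav, hbv⟩ := hB.proj_perp hab c₁
  have hva : sv B a v (Q v) ∈ L := by rw [hfa v hav]; exact phi_spec ha hav
  have hva' : Iso B (sv B a v (Q v)) := iso_sv hB hav _
  set d := ap (sv B a v (Q v)) c₁ with hddef
  have hd : Full B L d := hc₁f.map hC.setup hva
  have hQd : Q d = Q c₁ := quad_sv hQB hB hQa hav _
  have had : B a d = 1 := by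
    have h1 := hva' a c₁
    rw [ap_sv_self hB hav, hB.comm a c₁, hc₁a] at h1
    exact h1
  have hd' : ∃ lam : F, d = b + lam • a := by
    refine ⟨B c₁ b + B c₁ v + Q v, ?_⟩
    rw [hddef, ap_sv hB hav, hc₁a, hvdef, proj_apply, hc₁a]
    funext i
    simp only [Pi.add_apply, Pi.smul_apply, smul_eq_mul, one_mul, one_smul]
    linear_combination c₁ i * CharTwo.two_eq_zero (R := F)
  obtain ⟨lam, hd'⟩ := hd'
  have hlam : Q d = lam := by
    rw [hd', quad_add hQB, quad_smul, hQa, hQb]
    simp [hba]
  rw [← hQd, hlam]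
  by_contra hl
  by_cases hz : ∀ w, w ≠ 0 → B a w = 0 → B b w = 0 → Q w ≠ 0
  · obtain ⟨u, hu0, hau, hbu⟩ := hB.exists_perp_pair h4 a b hab
    obtain ⟨r, hr⟩ := hC.surjective_line ha hau hu0 (fun w hw hs h0 => by
      obtain ⟨t, rfl⟩ := hs
      exact hz _ hw (by simp [hau]) (by simp [hbu]) (by rw [hfa _ (by simp [hau]), h0])) lam
    simp only at hr
    have har : B a (r • u) = 0 := by simp [hau]
    have hub : B u b = 0 := by rw [hB.comm]; exact hbu
    have hg := phi_spec (L := L) ha har
    have h1 := hd.map hC.setup hg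
    have e : ap (sv B a (r • u) (phi B L a (r • u))) d = b + r • u := by
      rw [hr, hd', ap_sv hB har]
      simp only [map_add, map_smul, LinearMap.add_apply, LinearMap.smul_apply, hB.self, hba, hbu,
        hau, smul_eq_mul, mul_zero, mul_one, add_zero, zero_smul, one_smul]
      funext i
      simp only [Pi.add_apply, Pi.smul_apply, smul_eq_mul]
      linear_combination lam * a i * CharTwo.two_eq_zero (R := F)
    rw [e] at h1
    have h2 := hC.phi_perp hb h1 (by simp [hB.self, hbu])
    have h3 := hC.phi_shift hb (v := r • u) (by simp [hbu]) 1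
    rw [one_smul, add_comm] at h3
    rw [h3, ← hfb _ (by simp [hbu]), hfa _ har, hr] at h2
    exact hl h2
  push Not at hz
  obtain ⟨w, hw0, haw, hbw, hQw⟩ := hz
  have hwL : sv B b w (Q w) ∈ L := by rw [hfb w hbw]; exact phi_spec hb hbw
  set a' := ap (sv B b w (Q w)) a with ha'def
  have ha'f : Full B L a' := ha.map hC.setup hwL
  have ha' : a' = a + w := by
    rw [ha'def, ap_sv hB hbw, hQw, hab, haw]; simp
  have hwa : B w a = 0 := by rw [hB.comm]; exact haw
  have hwb : B w b = 0 := by rw [hB.comm]; exact hbw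
  have ha'd : B a' d = 1 := by
    rw [ha', hd']; simp [hB.self, hab, hwa, hwb]
  obtain ⟨u, hau, hbu, hwu⟩ := hB.exists_zero_zero_one (a := a) (z := b) (v := w)
    (fun t ht => by
      have h1 : B a b = 0 := by rw [ht]; simp [hB.self]
      rw [hab] at h1; exact one_ne_zero h1) ha.1
    (fun s t hst => hw0 (by
      have h1 : B a w = t := by rw [hst]; simp [hB.self, hab]
      have h2 : B b w = s := by rw [hst]; simp [hB.self, hba]
      rw [haw] at h1; rw [hbw] at h2
      rw [hst, ← h1, ← h2]; simp))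
  set x := lam • a + b + u with hxdef
  have hua : B u a = 0 := by rw [hB.comm]; exact hau
  have hub : B u b = 0 := by rw [hB.comm]; exact hbu
  have ha'x : B a' x = 0 := by
    rw [ha', hxdef]
    simp [hB.self, hab, hau, hwa, hwb, hwu, CharTwo.add_self_eq_zero]
  have hdx : B d x = 0 := by
    rw [hd', hxdef]
    simp [hB.self, hba, hab, hau, hbu, CharTwo.add_self_eq_zero]
  have hax : B a x = 1 := by rw [hxdef]; simp [hB.self, hab, hau]
  -- the scalar of `x` at `a'`
  have h1 : phi B L a' x = Q x := by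
    have hm := inv_mem hwL
    have e1 : ap (sv B b w (Q w))⁻¹ a' = a := by rw [ha'def, ap_inv_ap]
    have h2 := hC.phi_conj ha'f ha'x hm
    rw [e1] at h2
    rw [← h2, ← hfa, sv_inv hB hbw, quad_sv hQB hB hQb hbw]
    rw [← e1, hC.setup.iso _ hm, ha'x]
  -- the scalar of `x` at `d`
  obtain ⟨Q₂, hQ₂B, hQ₂a, hQ₂d, hf₂a, hf₂d, -⟩ := hC.exists_pair_form ha hd had
  have h2 : phi B L d x = Q x + lam := by
    rw [← hf₂d x hdx]
    have hxd : B a (x + d) = 0 := by simp [hax, had, CharTwo.add_self_eq_zero]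
    have e1 := hf₂a _ hxd
    have e2 := hfa _ hxd
    have hxd' : B x d = 0 := by rw [hB.comm]; exact hdx
    rw [quad_add hQ₂B, hQ₂d, hxd', add_zero, add_zero] at e1
    rw [quad_add hQB, hlam, hxd', add_zero] at e2
    rw [e1, e2]
  have h3 := (hC.pair ha'f hd ha'd x ha'x hdx).2
  rw [h1, h2] at h3
  exact hl (by linear_combination h3)

/-- The group preserves a quadratic form and contains the root elements of a hyperbolic pair. -/
theorem exists_form (h4 : 4 ≤ Fintype.card ι) {a : ι → F} (ha : Full B L a) :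
    ∃ Q : QuadraticForm F (ι → F), ∃ b : ι → F, (∀ x y, QuadraticMap.polar Q x y = B x y) ∧
      B a b = 1 ∧ Q a = 0 ∧ Q b = 0 ∧ (∀ v, B a v = 0 → sv B a v (Q v) ∈ L) ∧
      (∀ v, B b v = 0 → sv B b v (Q v) ∈ L) ∧ ∀ h ∈ L, ∀ x, Q (ap h x) = Q x := by
  obtain ⟨h₀, hh₀, s, hs, hab⟩ := hC.setup.exists_orbit_partner ha.1
  have hb : Full B L (s • ap h₀ a) := (ha.map hC.setup hh₀).smul hC.setup hs
  obtain ⟨Q, hQ, hQa, hQb, hfa, hfb, -⟩ := hC.exists_pair_form ha hb hab
  refine ⟨Q, _, hQ, hab, hQa, hQb, fun v hv => by rw [hfa v hv]; exact phi_spec ha hv,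
    fun v hv => by rw [hfb v hv]; exact phi_spec hb hv, fun h hh x => ?_⟩
  have hzero : ∀ c, Full B L c → Q c = 0 := fun c hc =>
    hC.singular_of_pair h4 ha hb hab hc hQ hQa hQb hfa hfb
  let K : Submodule F (ι → F) :=
    { carrier := {x | Q (ap h x) = Q x}
      add_mem' := fun {x y} (hx : _ = _) (hy : _ = _) => by
        show Q (ap h (x + y)) = Q (x + y)
        rw [map_add, quad_add hQ, quad_add hQ, hx, hy, hC.setup.iso h hh]
      zero_mem' := by show Q (ap h 0) = Q 0; rw [map_zero]
      smul_mem' := fun t x (hx : _ = _) => by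
        show Q (ap h (t • x)) = Q (t • x)
        rw [map_smul, quad_smul, quad_smul, hx] }
  let W := Submodule.span F {c | Full B L c}
  have hinv : ∀ g ∈ L, ∀ w ∈ W, ap g w ∈ W := by
    intro g hg w hw
    have h1 : W ≤ W.comap (ap g) := Submodule.span_le.2 fun c hc =>
      Submodule.subset_span (hc.map hC.setup hg)
    exact h1 hw
  have hW : W = ⊤ := (hC.setup.irr W hinv).resolve_left fun h1 => ha.1 (by
    have h2 : a ∈ W := Submodule.subset_span ha
    rwa [h1, Submodule.mem_bot] at h2)
  have hWK : W ≤ K := Submodule.span_le.2 fun c hc => by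
    show Q (ap h c) = Q c
    rw [hzero c hc, hzero _ (hc.map hC.setup hh)]
  exact hWK (hW ▸ Submodule.mem_top : x ∈ W)

end Ctx

end CfsgLib.TwoTransSp
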