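import Cfsg.Agent.Lib.Maximal.SymIndex

/-!
Large proper subgroups of the symmetric group of degree six.
-/

set_option autoImplicit false

namespace CfsgLib.TwoTransSp

open Equiv

/-- A proper subgroup of order at least `120` of `S₆` is `A₆` or isomorphic to `S₅`. -/
theorem perm_six_subgroup (H : Subgroup (Equiv.Perm (Fin 6))) (h : 120 ≤ Nat.card H)
    (hne : H ≠ ⊤) :
    Nonempty (H ≃* alternatingGroup (Fin 6)) ∨ Nonempty (H ≃* Equiv.Perm (Fin 5)) := by
  classical
  by_cases hA : H = alternatingGroup (Fin 6)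
  · exact Or.inl ⟨MulEquiv.subgroupCongr hA⟩
  refine Or.inr ?_
  obtain ⟨hcore, hidx⟩ := CfsgLib.Maximal.card_le_index (by simp) H hne hA
  have hmul := H.index_mul_card
  rw [Fintype.card_fin] at hidx
  rw [Nat.card_perm, Nat.card_fin, show Nat.factorial 6 = 720 from rfl] at hmul
  have hi : H.index = 6 := by nlinarith
  have hc : Nat.card H = 120 := by rw [hi] at hmul; omega
  set φ := MulAction.toPermHom (Equiv.Perm (Fin 6)) (Equiv.Perm (Fin 6) ⧸ H) with hφ
  have hker := Subgroup.normalCore_eq_ker H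
  rw [hcore] at hker
  have hinj : Function.Injective φ := (MonoidHom.ker_eq_bot_iff _).1 hker.symm
  set x₀ : Equiv.Perm (Fin 6) ⧸ H := QuotientGroup.mk 1 with hx₀
  have hfix : ∀ g : H, φ (g : Equiv.Perm (Fin 6)) x₀ = x₀ := fun g => by
    show ((g : Equiv.Perm (Fin 6)) • x₀ : Equiv.Perm (Fin 6) ⧸ H) = x₀
    rw [hx₀, MulAction.Quotient.smul_mk, smul_eq_mul, mul_one, QuotientGroup.eq, mul_one]
    exact inv_mem g.2
  have hne' : ∀ (g : H) (x), φ (g : Equiv.Perm (Fin 6)) x ≠ x₀ ↔ x ≠ x₀ := fun g x => by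
    refine not_congr ⟨fun h => (φ (g : Equiv.Perm (Fin 6))).injective (h.trans (hfix g).symm),
      fun h => by rw [h]; exact hfix g⟩
  let ψ : H →* Equiv.Perm {x : Equiv.Perm (Fin 6) ⧸ H // x ≠ x₀} :=
    { toFun := fun g => (φ (g : Equiv.Perm (Fin 6))).subtypePerm (hne' g)
      map_one' := by ext x; simp
      map_mul' := fun g k => Equiv.ext fun x => Subtype.ext (by
        show φ ((g * k : H) : Equiv.Perm (Fin 6)) x.1 = φ g (φ k x.1)
        rw [Subgroup.coe_mul, map_mul]; rfl) }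
  have hψ : Function.Injective ψ := fun g k hgk => by
    refine Subtype.ext (hinj (Equiv.ext fun x => ?_))
    rcases eq_or_ne x x₀ with rfl | hx
    · rw [hfix, hfix]
    · simpa [ψ] using congrArg Subtype.val (Equiv.ext_iff.1 hgk ⟨x, hx⟩)
  have hcard5 : Nat.card {x : Equiv.Perm (Fin 6) ⧸ H // x ≠ x₀} = 5 := by
    have : Fintype (Equiv.Perm (Fin 6) ⧸ H) := Fintype.ofFinite _
    have h6 : Fintype.card (Equiv.Perm (Fin 6) ⧸ H) = 6 := by
      rw [← Nat.card_eq_fintype_card]; exact hi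
    rw [Nat.card_eq_fintype_card, Fintype.card_subtype_compl, Fintype.card_subtype_eq, h6]
  obtain ⟨e⟩ : Nonempty ({x : Equiv.Perm (Fin 6) ⧸ H // x ≠ x₀} ≃ Fin 5) :=
    ⟨(Finite.equivFinOfCardEq hcard5)⟩
  have hbij : Function.Bijective ψ := (Nat.bijective_iff_injective_and_card ψ).2 ⟨hψ, by
    rw [hc, Nat.card_perm, hcard5]; rfl⟩
  exact ⟨(MulEquiv.ofBijective ψ hbij).trans e.permCongrHom⟩

end CfsgLib.TwoTransSp
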