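import Cfsg.Agent.Lib.TwoTransSp.Pair
import Cfsg.Agent.Lib.TwoTransSp.SixSub

/-!
The exception in dimension four over the field with two elements.
-/

set_option autoImplicit false
set_option linter.unusedSectionVars false
set_option linter.unusedSimpArgs false

namespace CfsgLib.TwoTransSp

variable {ι : Type} [Fintype ι] [DecidableEq ι] {F : Type*} [Field F] [CharP F 2]
  {B : LinearMap.BilinForm F (ι → F)} {L : Subgroup (GL ι F)}

/-- An isometry fixing `a` and trivial on `a⊥` modulo `a` is one of the elements `sv a v c`. -/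
theorem Alt.eq_sv_of_fix (hB : Alt B) {g : GL ι F} (hg : Iso B g) {a b : ι → F}
    (hab : B a b = 1) (hga : ap g a = a)
    (hmod : ∀ y, B a y = 0 → ∃ t : F, ap g y = y + t • a) :
    g = sv B a (proj B a b (ap g b + b)) (B (ap g b) b) := by
  have hba : B b a = 1 := by rw [hB.comm]; exact hab
  set v := proj B a b (ap g b + b) with hv
  have hav : B a v = 0 := (hB.proj_perp hab _).1
  have hbv : B b v = 0 := (hB.proj_perp hab _).2
  refine ext_ap fun x => ?_
  set y := x + B x a • b with hy
  have hay : B a y = 0 := by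
    simp [hy, hab, hB.comm a x, CharTwo.add_self_eq_zero]
  obtain ⟨t, ht⟩ := hmod y hay
  have hya : B y a = 0 := by rw [hB.comm]; exact hay
  have h1 : B (ap g b) a = 1 := by
    have h := hg b a
    rw [hga, hba] at h
    exact h
  have ht' : B (ap g b) y + t = B b y := by
    have h := hg b y
    rw [ht] at h
    simpa [h1] using h
  have hgb : ap g b = b + v + B (ap g b) b • a := by
    rw [hv, proj_apply]
    funext i
    simp only [map_add, LinearMap.add_apply, hB.self, add_zero, h1, hba, CharTwo.add_self_eq_zero,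
      zero_smul, Pi.add_apply, Pi.smul_apply, smul_eq_mul]
    linear_combination -(b i + B (ap g b) b * a i) * CharTwo.two_eq_zero (R := F)
  have hx : x = y + B x a • b := by rw [hy, add_assoc, two_smul_eq_zero, add_zero]
  have hyv : B y v = t := by
    rw [hv, proj_apply]
    simp only [map_add, map_smul, LinearMap.add_apply, hB.self, add_zero, h1, hba,
      CharTwo.add_self_eq_zero, zero_smul, hya, smul_eq_mul, mul_zero]
    rw [hB.comm y (ap g b), hB.comm y b]
    linear_combination ht' + (B b y - t) * CharTwo.two_eq_zero (R := F)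
  generalize hr : B x a = r at hx
  clear_value y
  subst hx
  generalize hc : B (ap g b) b = c at hgb ⊢
  rw [map_add, map_add, map_smul, map_smul, ht, ap_sv hB hav, ap_sv hB hav, hba, hbv, hya,
    hyv, hgb]
  funext i
  simp only [Pi.add_apply, Pi.smul_apply, smul_eq_mul, mul_zero, mul_one, zero_mul, add_zero]
  ring

/-- The elements `sv a v c` of a centre, as a subgroup. -/
def rad (hB : Alt B) (a : ι → F) : Subgroup (GL ι F) where
  carrier := {g | ∃ v c, B a v = 0 ∧ g = sv B a v c}
  mul_mem' := by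
    rintro _ _ ⟨v, c, hv, rfl⟩ ⟨w, d, hw, rfl⟩
    exact ⟨v + w, c + d + B v w, by simp [hv, hw], sv_mul hB hv hw c d⟩
  one_mem' := ⟨0, 0, by simp, (sv_zero hB a).symm⟩
  inv_mem' := by
    rintro _ ⟨v, c, hv, rfl⟩
    exact ⟨v, c, hv, sv_inv hB hv c⟩

/-- Two orthogonal centres whose element with scalar `0` is missing. -/
structure Fail (B : LinearMap.BilinForm F (ι → F)) (L : Subgroup (GL ι F)) (a z : ι → F) : Prop
    where
  left : Full B L a
  right : Full B L z
  perp : B a z = 0
  out : sv B a z 0 ∉ L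

/-- `y` is in the `L`-orbit of `a`. -/
def Orb (L : Subgroup (GL ι F)) (a y : ι → F) : Prop := ∃ h ∈ L, ap h a = y

theorem Orb.refl (a : ι → F) : Orb L a a := ⟨1, one_mem _, ap_one a⟩

theorem Orb.step {a y y' : ι → F} (hy : Orb L a y) {g : GL ι F} (hg : g ∈ L) (h : ap g y = y') :
    Orb L a y' := by
  obtain ⟨k, hk, rfl⟩ := hy
  exact ⟨g * k, mul_mem hg hk, by rw [ap_mul, h]⟩

theorem Orb.back {a y y' : ι → F} (hy : Orb L a y') {g : GL ι F} (hg : g ∈ L) (h : ap g y = y') :
    Orb L a y :=
  hy.step (inv_mem hg) (by rw [← h, ap_inv_ap])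

theorem Orb.trans {a y y' : ι → F} (hy : Orb L a y) (hy' : Orb L y y') : Orb L a y' := by
  obtain ⟨g, hg, h⟩ := hy'
  exact hy.step hg h

theorem Orb.full (hS : Setup B L) {a y : ι → F} (ha : Full B L a) (hy : Orb L a y) :
    Full B L y := by
  obtain ⟨g, hg, rfl⟩ := hy
  exact ha.map hS hg

namespace Fail

variable (hS : Setup B L) (hf : ∀ t : F, t = 0 ∨ t = 1) {a z : ι → F}
include hS hf

theorem indep (h : Fail B L a z) : ∀ t : F, z ≠ t • a := by
  intro t ht
  apply h.out
  have h1 := sv_add_smul hS.alt (z := a) (v := 0) (by simp) t 0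
  rw [zero_add, sv_zero hS.alt] at h1
  rw [ht, h1]
  exact one_mem _

theorem one_mem_left (h : Fail B L a z) : sv B a z 1 ∈ L := by
  obtain ⟨c, hc⟩ := h.left.2 z h.perp
  rcases hf c with rfl | rfl
  · exact absurd hc h.out
  · exact hc

theorem symm (h : Fail B L a z) : Fail B L z a :=
  ⟨h.right, h.left, by rw [hS.alt.comm]; exact h.perp, by
    rw [← sv_swap hS.alt h.perp]; exact h.out⟩

theorem orb_right (h : Fail B L a z) : Orb L a z ∧ Orb L a (z + a) := by
  have hB := hS.alt
  obtain ⟨v, hv0, hv1⟩ := hB.exists_zero_one ((h.symm hS hf).indep hS hf)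
  obtain ⟨c, hc⟩ := h.right.2 v hv0
  have h1 : Orb L a (z + a) := (Orb.refl a).step hc (by
    rw [ap_sv hB hv0, h.perp, hv1]; simp [add_comm])
  obtain ⟨w, hw0, hw1⟩ := hB.exists_zero_one (h.indep hS hf)
  obtain ⟨d, hd⟩ := h.left.2 w hw0
  exact ⟨h1.back hd (by rw [ap_sv hB hw0, hB.comm z a, h.perp, hw1]; simp), h1⟩

theorem exists_third (h : Fail B L a z) :
    ∃ e, Orb L a e ∧ B e a = 0 ∧ B e z = 1 := by
  have hB := hS.alt
  obtain ⟨h₀, hh₀, s, hs, hab⟩ := hS.exists_orbit_partner h.left.1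
  rw [(hf s).resolve_left hs, one_smul] at hab
  have hb : Orb L a (ap h₀ a) := ⟨h₀, hh₀, rfl⟩
  set b := ap h₀ a
  obtain ⟨b', hb', hba, hbz⟩ : ∃ b', Orb L a b' ∧ B b' a = 1 ∧ B b' z = 1 := by
    rcases hf (B b z) with hbz | hbz
    swap
    · exact ⟨b, hb, by rw [hB.comm]; exact hab, hbz⟩
    obtain ⟨v, hv0, hv1⟩ := hB.exists_zero_one (h.indep hS hf)
    obtain ⟨c, hc⟩ := h.left.2 v hv0
    refine ⟨_, hb.step hc rfl, ?_, ?_⟩
    · rw [ap_sv hB hv0]
      simp [hB.comm b a, hab, hB.self, hB.comm v a, hv0]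
    · rw [ap_sv hB hv0]
      simp [hbz, hB.comm b a, hab, h.perp, hB.comm v z, hv1]
  obtain ⟨w, hw0, hw1⟩ := hB.exists_zero_one ((h.symm hS hf).indep hS hf)
  obtain ⟨d, hd⟩ := h.right.2 w hw0
  refine ⟨_, hb'.step hd rfl, ?_, ?_⟩
  · rw [ap_sv hB hw0]
    simp [hba, hbz, hB.comm z a, h.perp, hB.comm w a, hw1, CharTwo.add_self_eq_zero]
  · rw [ap_sv hB hw0]
    simp [hbz, hB.self, hB.comm w z, hw0]

theorem shift (h : Fail B L a z) {e : ι → F} (hea : B e a = 0) (hez : B e z = 1) :
    ap (sv B z a 1) a = a ∧ ap (sv B z a 1) e = e + a + z := by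
  have hB := hS.alt
  have hza : B z a = 0 := by rw [hB.comm]; exact h.perp
  constructor
  · simp [ap_sv hB hza, h.perp, hB.self]
  · simp [ap_sv hB hza, hea, hez]

theorem orb_perp (h4 : Fintype.card ι = 4) (h : Fail B L a z) {y : ι → F} (hy0 : y ≠ 0)
    (hya : B y a = 0) : Orb L a y := by
  have hB := hS.alt
  obtain ⟨hoz, hoza⟩ := h.orb_right hS hf
  obtain ⟨e, hoe, hea, hez⟩ := h.exists_third hS hf
  obtain ⟨hua, hue⟩ := h.shift hS hf hea hez
  have hu := (h.symm hS hf).one_mem_left hS hf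
  have hoea : Orb L a (e + a) := by
    obtain ⟨v, hv0, hv1⟩ := hB.exists_zero_one (a := a) (z := e) fun t ht => by
      rw [ht] at hez; simp [h.perp] at hez
    obtain ⟨c, hc⟩ := h.left.2 v hv0
    exact hoe.step hc (by rw [ap_sv hB hv0, hea, hv1]; simp)
  have hoez : Orb L a (e + z) := hoea.step hu (by
    rw [map_add, hua, hue, add_right_comm (e + a) z a, add_assoc e a a, two_smul_eq_zero,
      add_zero])
  have hoaz : Orb L a (e + a + z) := hoe.step hu hue
  set y' := y + B y z • e + B y e • z with hy'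
  have p1 : B y' a = 0 := by simp [hy', hya, hea, hB.comm z a, h.perp]
  have p2 : B y' z = 0 := by simp [hy', hez, hB.self, CharTwo.add_self_eq_zero]
  have p3 : B y' e = 0 := by simp [hy', hB.self, hB.comm z e, hez, CharTwo.add_self_eq_zero]
  have hY : ∃ s : F, y' = s • a := by
    by_contra hno
    push Not at hno
    have hli : LinearIndependent F ![a, y', z, e] := by
      rw [Fintype.linearIndependent_iff]
      intro g hg
      simp only [Fin.sum_univ_four, Matrix.cons_val_zero, Matrix.cons_val_one, Matrix.cons_val,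
        Matrix.head_cons] at hg
      have k2 : g 2 = 0 := by
        have h1 := congrArg (fun x => B x e) hg
        simpa [hB.comm a e, hea, p3, hB.self, hB.comm z e, hez] using h1
      have k3 : g 3 = 0 := by
        have h1 := congrArg (fun x => B x z) hg
        simpa [h.perp, p2, hB.self, hez] using h1
      rw [k2, k3, zero_smul, zero_smul, add_zero, add_zero] at hg
      have k1 : g 1 = 0 := by
        by_contra hne
        refine hno ((g 1)⁻¹ * g 0) ?_
        rw [← smul_smul, (funext fun i => CharTwo.add_eq_zero.1 (congrFun hg i) :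
          g 0 • a = g 1 • y'), smul_smul, inv_mul_cancel₀ hne, one_smul]
      rw [k1, zero_smul, add_zero] at hg
      have k0 : g 0 = 0 := (smul_eq_zero.1 hg).resolve_right h.left.1
      intro i
      fin_cases i <;> assumption
    have hspan := hli.span_eq_top_of_card_eq_finrank (by
      rw [Fintype.card_fin, Module.finrank_fintype_fun_eq_card, h4])
    have hzero : y' = 0 := hB.nd y' fun x => by
      have hx : x ∈ Submodule.span F (Set.range ![a, y', z, e]) := hspan ▸ Submodule.mem_top
      induction hx using Submodule.span_induction with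
      | mem x hx =>
        obtain ⟨i, rfl⟩ := hx
        fin_cases i <;> simp [p1, p2, p3, hB.self]
      | zero => simp
      | add x y _ _ hx hy => simp [hx, hy]
      | smul t x _ hx => simp [hx]
    exact hno 0 (by rw [hzero, zero_smul])
  obtain ⟨s, hs⟩ := hY
  have hy : y = s • a + B y e • z + B y z • e := by
    rw [← hs, hy']
    funext i
    simp only [Pi.add_apply, Pi.smul_apply, smul_eq_mul]
    linear_combination -(B y z * e i + B y e * z i) * CharTwo.two_eq_zero (R := F)
  rcases hf s with h1 | h1 <;> rcases hf (B y e) with h2 | h2 <;>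
    rcases hf (B y z) with h3 | h3 <;>
    simp only [h1, h2, h3, zero_smul, one_smul, zero_add, add_zero] at hy
  · exact absurd hy hy0
  · rwa [hy]
  · rwa [hy]
  · rw [hy, add_comm z e]; exact hoez
  · rw [hy]; exact Orb.refl a
  · rw [hy, add_comm a e]; exact hoea
  · rw [hy, add_comm a z]; exact hoza
  · rw [hy, show a + z + e = e + a + z by abel]; exact hoaz

theorem orb_all (h4 : Fintype.card ι = 4) (h : Fail B L a z) {y : ι → F} (hy0 : y ≠ 0) :
    Orb L a y := by
  have hB := hS.alt
  obtain ⟨hoz, hoza⟩ := h.orb_right hS hf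
  rcases hf (B y a) with hya | hya
  · exact h.orb_perp hS hf h4 hy0 hya
  rcases hf (B y z) with hyz | hyz
  · exact hoz.trans ((h.symm hS hf).orb_perp hS hf h4 hy0 hyz)
  · have h' : Fail B L a (z + a) := ⟨h.left, hoza.full hS h.left, by simp [h.perp, hB.self], by
      have e := sv_add_smul hB h.perp 1 (0 : F)
      rw [one_smul] at e
      rw [e]
      exact h.out⟩
    exact hoza.trans ((h'.symm hS hf).orb_perp hS hf h4 hy0 (by
      simp [hya, hyz, CharTwo.add_self_eq_zero]))

open scoped Classical in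
/-- The stabiliser of the first centre has order at least eight. -/
theorem eight_le_stab [Fintype F] (h : Fail B L a z) (S : Subgroup L)
    (hS' : ∀ g : L, g ∈ S ↔ ap (g : GL ι F) a = a) : 8 ≤ Nat.card S := by
  have hB := hS.alt
  obtain ⟨e, hoe, hea, hez⟩ := h.exists_third hS hf
  obtain ⟨hua, hue⟩ := h.shift hS hf hea hez
  have hae : B a e = 0 := by rw [hB.comm]; exact hea
  obtain ⟨c, hc⟩ := h.left.2 e hae
  set R : Subgroup L := (rad hB a).subgroupOf L with hR
  have hRS : R ≤ S := fun g hg => by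
    obtain ⟨v, d, hv, hgv⟩ := hg
    rw [hS']
    show ap (L.subtype g) a = a
    rw [hgv, ap_sv_self hB hv]
  have hR2 : IsPGroup 2 R := fun g => ⟨1, by
    obtain ⟨v, d, hv, hgv⟩ := g.2
    refine Subtype.ext (Subtype.ext ?_)
    show (L.subtype g.1) ^ (2 ^ 1) = 1
    rw [hgv, pow_one, pow_two, sv_mul_self hB hv]⟩
  set g₁ : L := ⟨_, h.one_mem_left hS hf⟩
  set g₂ : L := ⟨_, hc⟩
  have m1 : g₁ ∈ R := ⟨z, 1, h.perp, rfl⟩
  have m2 : g₂ ∈ R := ⟨e, c, hae, rfl⟩
  have e1 : ap (g₁ : GL ι F) e = e + a := by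
    simp [g₁, ap_sv hB h.perp, hea, hez]
  have e2 : ap (g₂ : GL ι F) e = e := by simp [g₂, ap_sv hB hae, hea, hB.self]
  have e3 : ap (g₂ : GL ι F) z = z + a := by
    simp [g₂, ap_sv hB hae, hB.comm z a, h.perp, hB.comm z e, hez]
  have ne0 : ∀ x : ι → F, x + a ≠ x := fun x hx => h.left.1 (by simpa using hx)
  have hne1 : g₁ ≠ 1 := fun he => ne0 e (by rw [← e1, he]; simp)
  have hne2 : g₂ ≠ 1 := fun he => ne0 z (by rw [← e3, he]; simp)
  have hne3 : g₁ ≠ g₂ := fun he => ne0 e (by rw [← e1, he, e2])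
  have h3 : 3 ≤ Nat.card R := by
    have : ({⟨1, one_mem R⟩, ⟨g₁, m1⟩, ⟨g₂, m2⟩} : Finset R).card = 3 := by
      rw [Finset.card_insert_of_notMem, Finset.card_insert_of_notMem, Finset.card_singleton] <;>
        simp [Subtype.ext_iff, hne1, hne2, hne3, Ne.symm hne1, Ne.symm hne2]
    rw [Nat.card_eq_fintype_card, ← this]
    exact Finset.card_le_univ _
  set u : L := ⟨_, (h.symm hS hf).one_mem_left hS hf⟩
  have huR : u ∉ R := by
    rintro ⟨v, d, hv, huv⟩
    have h1 : ap (sv B z a 1) e = ap (sv B a v d) e :=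
      congrArg (fun g : GL ι F => ap g e) huv
    rw [hue, ap_sv hB hv, hea, zero_smul, add_zero, mul_zero, zero_smul, add_zero, add_assoc] at h1
    refine h.indep hS hf (B e v + 1) ?_
    have h2 : a + z = B e v • a := add_left_cancel h1
    rw [add_smul, one_smul, ← h2, add_comm a z, add_assoc, two_smul_eq_zero, add_zero]
  have hlt : R < S := lt_of_le_of_ne hRS fun he => huR (he ▸ (hS' u).2 hua)
  obtain ⟨m, hm⟩ := Subgroup.card_dvd_of_le hRS
  obtain ⟨k, hk⟩ := IsPGroup.iff_card.1 hR2
  have h4R : 4 ≤ Nat.card R := by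
    rw [hk] at h3 ⊢
    have : 2 ≤ k := by
      by_contra hlt
      have := Nat.pow_le_pow_right (show 1 ≤ 2 by norm_num) (show k ≤ 1 by omega)
      omega
    calc 4 = 2 ^ 2 := rfl
      _ ≤ 2 ^ k := Nat.pow_le_pow_right (by norm_num) this
  have hpos : 0 < Nat.card S := Nat.card_pos
  have hne : Nat.card R ≠ Nat.card S := fun he =>
    hlt.ne (Subgroup.eq_of_le_of_card_ge hRS he.ge)
  have h2m : 2 ≤ m := by
    rcases m with _ | _ | m
    · rw [mul_zero] at hm; omega
    · exact absurd (by rw [hm, zero_add, mul_one]) hne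
    · omega
  calc 8 = 4 * 2 := rfl
    _ ≤ Nat.card R * m := Nat.mul_le_mul h4R h2m
    _ = Nat.card S := hm.symm

end Fail

/-- The exception: `A₆` or `S₅` inside `Sp₄(2) ≅ S₆`. -/
theorem Setup.four [Fintype F] (hS : Setup B L) (hf : ∀ t : F, t = 0 ∨ t = 1)
    (h4 : Fintype.card ι = 4) (hT : NoT B L) (hP : ¬ Perp B L)
    (G : Subgroup (GL ι F)) (hG : ∀ g, g ∈ G ↔ Iso B g) (e : G ≃* Equiv.Perm (Fin 6)) :
    Nonempty (L ≃* alternatingGroup (Fin 6)) ∨ Nonempty (L ≃* Equiv.Perm (Fin 5)) := by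
  classical
  have hB := hS.alt
  obtain ⟨a, z, h⟩ : ∃ a z, Fail B L a z := by
    unfold Perp at hP
    push Not at hP
    obtain ⟨a, z, ha, hz, haz, hout⟩ := hP
    exact ⟨a, z, ha, hz, haz, hout⟩
  have hLG : L ≤ G := fun g hg => (hG g).2 (hS.iso g hg)
  let _act : MulAction L (ι → F) :=
    { smul := fun g x => ap (g : GL ι F) x
      one_smul := fun x => ap_one x
      mul_smul := fun g k x => ap_mul (g : GL ι F) k x }
  have hsmul : ∀ (g : L) (x : ι → F), g • x = ap (g : GL ι F) x := fun g x => rfl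
  have horb : MulAction.orbit L a = {0}ᶜ := by
    ext y
    rw [MulAction.mem_orbit_iff, Set.mem_compl_iff, Set.mem_singleton_iff]
    constructor
    · rintro ⟨g, rfl⟩ h0
      exact h.left.1 (ap_injective (g : GL ι F) (by rw [← hsmul, h0, map_zero]))
    · intro hy
      obtain ⟨g, hg, rfl⟩ := h.orb_all hS hf h4 hy
      exact ⟨⟨g, hg⟩, rfl⟩
  have hidx : (MulAction.stabilizer L a).index = 15 := by
    have hF : Fintype.card F = 2 := by
      rw [← Finset.card_univ, show (Finset.univ : Finset F) = {0, 1} by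
        ext t; simpa using hf t]
      simp
    rw [MulAction.index_stabilizer]
    erw [horb]
    rw [Set.ncard_compl, Set.ncard_singleton, Nat.card_eq_fintype_card, Fintype.card_fun, hF, h4]
    norm_num
  have h120 : 120 ≤ Nat.card L := by
    have h8 := h.eight_le_stab hS hf (MulAction.stabilizer L a) fun g => Iff.rfl
    have := (MulAction.stabilizer L a).index_mul_card
    rw [hidx] at this
    omega
  set H : Subgroup (Equiv.Perm (Fin 6)) := (L.subgroupOf G).map e.toMonoidHom with hH
  have eL : L ≃* H := (Subgroup.subgroupOfEquivOfLe hLG).symm.trans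
    (Subgroup.equivMapOfInjective _ e.toMonoidHom e.injective)
  have hne : H ≠ ⊤ := by
    intro htop
    have hG1 : sv B a 0 1 ∈ G := (hG _).2 (iso_sv hB (by simp) 1)
    have hmem : e ⟨_, hG1⟩ ∈ H := htop ▸ Subgroup.mem_top _
    obtain ⟨g, hg, hge⟩ := hmem
    have h1 : g = ⟨_, hG1⟩ := e.injective hge
    subst h1
    exact one_ne_zero (hT a h.left 1 hg)
  rcases perm_six_subgroup H (by rw [← Nat.card_congr eL.toEquiv]; exact h120) hne with
    hf6 | hf5
  · exact hf6.elim fun f => Or.inl ⟨eL.trans f⟩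
  · exact hf5.elim fun f => Or.inr ⟨eL.trans f⟩

end CfsgLib.TwoTransSp
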