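import Cfsg.Agent.Lib.TwoTransSp.Plus
import Cfsg.Agent.Lib.TwoTransSp.All

/-!
The irreducible overgroups, apart from the exception over the field with two elements.
-/

set_option autoImplicit false
set_option linter.unusedSectionVars false
set_option linter.unusedSimpArgs false

namespace CfsgLib.TwoTransSp

open CfsgLib.Orth

variable {ι : Type} [Fintype ι] [DecidableEq ι] {F : Type*} [Field F] [CharP F 2] [Fintype F]
  {B : LinearMap.BilinForm F (ι → F)} {L : Subgroup (GL ι F)} {Q : QuadraticForm F (ι → F)}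
  {a b : ι → F}

theorem exists_ne_or_two : (∃ t : F, t ≠ 0 ∧ t ≠ 1) ∨ ∀ t : F, t = 0 ∨ t = 1 := by
  by_cases h : ∃ t : F, t ≠ 0 ∧ t ≠ 1
  · exact Or.inl h
  · push Not at h
    refine Or.inr fun t => ?_
    rcases eq_or_ne t 0 with h0 | h0
    · exact Or.inl h0
    · exact Or.inr (h t h0)

theorem HPair.structure_eO (hH : HPair B Q a b) :
    hH.extend = ⊤ ∧ ∀ g ∈ hH.eO, dickson g = 1 := by
  by_cases hgen : reflClosure Q = ⊤
  · exact ⟨hH.extend_eq_top_of_gen hgen, fun g hg => hH.dickson_of_gen hgen hg⟩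
  have hno : ¬ ((∃ t : F, t ≠ 0 ∧ t ≠ 1) ∨ Fintype.card ι ≠ 4) := fun h =>
    hgen (reflClosure_eq_top hH.nondeg h)
  obtain ⟨hno1, hno2⟩ := not_or.1 hno
  have h4 : Fintype.card ι = 4 := not_not.1 hno2
  have hf : ∀ t : F, t = 0 ∨ t = 1 := exists_ne_or_two.resolve_left hno1
  obtain ⟨w, e, hQw, hQe, haw, hbw, hae, hbe, hwe⟩ := hH.exists_singular_perp hf hgen
  exact ⟨hH.plus_extend h4 hQw hQe haw hbw hae hbe hwe hf,
    fun g hg => hH.plus_dickson h4 hQw hQe haw hbw hae hbe hwe hg⟩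

theorem HPair.mem_eO_iff (hH : HPair B Q a b) (g : O Q) :
    g ∈ hH.eO ↔ Even (((g : GL ι F) : Matrix ι ι F) - 1).rank := by
  obtain ⟨htop, hd⟩ := hH.structure_eO
  have hrank : (((g : GL ι F) : Matrix ι ι F) - 1).rank = Module.finrank F (movS g) := by
    have e : Matrix.mulVecLin (((g : GL ι F) : Matrix ι ι F) - 1) =
        -((LinearMap.id : (ι → F) →ₗ[F] (ι → F)) - app g) := LinearMap.ext fun x => by
      simp [Matrix.sub_mulVec, app_apply]
    rw [Matrix.rank, movS, e, LinearMap.range_neg]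
  have hdick : dickson g = (-1) ^ Module.finrank F (movS g) := by
    have h1 := LinearMap.finrank_range_add_finrank_ker
      ((LinearMap.id : (ι → F) →ₗ[F] (ι → F)) - app g)
    rw [Module.finrank_fintype_fun_eq_card] at h1
    rw [dickson, movS]
    congr 1
    rw [fixS]
    omega
  rw [hrank]
  constructor
  · intro hg
    have h1 := hd g hg
    rw [hdick] at h1
    rcases Nat.even_or_odd (Module.finrank F (movS g)) with h | h
    · exact h
    · rw [h.neg_one_pow] at h1; exact absurd h1 (by decide)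
  · intro hev
    by_contra hg
    have hr : g * refl Q (a + b) ∈ hH.eO :=
      ((htop ▸ Subgroup.mem_top g : g ∈ hH.extend)).resolve_left hg
    have h1 := hH.refl_normalizes hr
    rw [← mul_assoc, mul_assoc (refl Q (a + b) * g), refl_mul_self, mul_one] at h1
    have hQab : Q (a + b) ≠ 0 := by
      rw [quad_add hH.polar, hH.left, hH.right, hH.pair]; simp
    have h2 := hd _ h1
    rw [dickson_refl_mul hH.nondeg hQab, hdick, hev.neg_one_pow] at h2
    exact absurd h2 (by decide)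

theorem Ctx.orth (hC : Ctx B L) (h4 : 4 ≤ Fintype.card ι) (ha : Full B L a) :
    ∃ Q : QuadraticForm F (ι → F), (∀ u v, QuadraticMap.polar ⇑Q u v = B u v) ∧
      (L = Cfsg.isometryGroup F ⇑Q ∨
        ∀ g : GL ι F, g ∈ L ↔
          g ∈ Cfsg.isometryGroup F ⇑Q ∧ Even ((g : Matrix ι ι F) - 1).rank) := by
  obtain ⟨Q, b, hQ, hab, hQa, hQb, hga, hgb, hinv⟩ := hC.exists_form h4 ha
  have hH : HPair B Q a b := ⟨hC.setup.alt, hQ, h4, hab, hQa, hQb⟩
  have hLO : L ≤ O Q := fun g hg => mem_O_of (hinv g hg)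
  have hEL : eGroup B Q a b ≤ L := (Subgroup.closure_le _).2 fun g hg => by
    obtain ⟨v, ⟨hv, rfl⟩ | ⟨hv, rfl⟩⟩ := hg
    · exact hga v hv
    · exact hgb v hv
  refine ⟨Q, hQ, ?_⟩
  by_cases hL : L ≤ eGroup B Q a b
  · refine Or.inr fun g => ⟨fun hg => ⟨hLO hg, ?_⟩, fun ⟨hgO, hev⟩ => ?_⟩
    · exact (hH.mem_eO_iff ⟨g, hLO hg⟩).1 (hL hg)
    · exact hEL ((hH.mem_eO_iff ⟨g, hgO⟩).2 hev)
  · refine Or.inl (le_antisymm hLO fun g hg => ?_)
    obtain ⟨x, hxL, hxE⟩ := SetLike.not_le_iff_exists.1 hL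
    obtain ⟨htop, -⟩ := hH.structure_eO
    have hmem : ∀ y : O Q, y ∈ hH.extend := fun y => htop ▸ Subgroup.mem_top y
    have hx := (hmem ⟨x, hLO hxL⟩).resolve_left hxE
    have hr : (refl Q (a + b) : GL ι F) ∈ L := by
      have h1 : x * (refl Q (a + b) : GL ι F) ∈ L := hEL hx
      simpa using mul_mem (inv_mem hxL) h1
    rcases hmem ⟨g, hg⟩ with h | h
    · exact hEL h
    · have h1 : g * (refl Q (a + b) : GL ι F) ∈ L := hEL h
      simpa using mul_mem h1 (inv_mem hr)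

/-- The classification away from the exception. -/
theorem Setup.main (hS : Setup B L) (h4 : 4 ≤ Fintype.card ι) (ha : Full B L a) :
    (∀ g, Iso B g → g ∈ L) ∨
    (∃ Q : QuadraticForm F (ι → F), (∀ u v, QuadraticMap.polar ⇑Q u v = B u v) ∧
      (L = Cfsg.isometryGroup F ⇑Q ∨
        ∀ g : GL ι F, g ∈ L ↔
          g ∈ Cfsg.isometryGroup F ⇑Q ∧ Even ((g : Matrix ι ι F) - 1).rank)) ∨
    ((∀ t : F, t = 0 ∨ t = 1) ∧ Fintype.card ι < 6 ∧ NoT B L ∧ ¬ Perp B L) := by
  by_cases hT : NoT B L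
  swap
  · obtain ⟨z, hz, hzT⟩ : ∃ z, Full B L z ∧ ∃ c, sv B z 0 c ∈ L ∧ c ≠ 0 := by
      unfold NoT at hT; push Not at hT; exact hT
    obtain ⟨c, hc, hc0⟩ := hzT
    rcases hS.dichotomy h4 hz with h | h
    · exact Or.inl fun g hg => hS.mem_of_all hz h hg
    · exact absurd (h c hc) hc0
  by_cases hP : Perp B L
  · exact Or.inr (Or.inl (Ctx.orth ⟨hS, hT, hP⟩ h4 ha))
  refine Or.inr (Or.inr ⟨exists_ne_or_two.resolve_left fun h => hP (hS.perp_of_noT hT (Or.inl h)),
    ?_, hT, hP⟩)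
  by_contra h6
  exact hP (hS.perp_of_noT hT (Or.inr (by omega)))

end CfsgLib.TwoTransSp
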