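import Cfsg.Agent.Lib.TwoTransSp.Form

/-!
The action of the root elements of a hyperbolic pair on singular and non-singular vectors.
-/

set_option autoImplicit false
set_option linter.unusedSectionVars false
set_option linter.unusedSimpArgs false

namespace CfsgLib.TwoTransSp

variable {ι : Type} [Fintype ι] [DecidableEq ι] {F : Type*} [Field F] [CharP F 2]
  {B : LinearMap.BilinForm F (ι → F)}

/-- A hyperbolic pair of a quadratic form polarising to `B`. -/
structure HPair (B : LinearMap.BilinForm F (ι → F)) (Q : QuadraticForm F (ι → F)) (a b : ι → F) :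
    Prop where
  alt : Alt B
  polar : ∀ x y, QuadraticMap.polar Q x y = B x y
  card : 4 ≤ Fintype.card ι
  pair : B a b = 1
  left : Q a = 0
  right : Q b = 0

/-- The root elements of the two vectors of the pair. -/
def gens (B : LinearMap.BilinForm F (ι → F)) (Q : QuadraticForm F (ι → F)) (a b : ι → F) :
    Set (GL ι F) :=
  {g | ∃ v, (B a v = 0 ∧ g = sv B a v (Q v)) ∨ (B b v = 0 ∧ g = sv B b v (Q v))}

/-- The group generated by the root elements of the pair. -/
def eGroup (B : LinearMap.BilinForm F (ι → F)) (Q : QuadraticForm F (ι → F)) (a b : ι → F) :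
    Subgroup (GL ι F) :=
  Subgroup.closure (gens B Q a b)

variable {Q : QuadraticForm F (ι → F)} {a b : ι → F}

namespace HPair

variable (hH : HPair B Q a b)
include hH

theorem swap_eq : B b a = 1 := by rw [hH.alt.comm]; exact hH.pair

theorem mem_left {v : ι → F} (hv : B a v = 0) : sv B a v (Q v) ∈ eGroup B Q a b :=
  Subgroup.subset_closure ⟨v, Or.inl ⟨hv, rfl⟩⟩

theorem mem_right {v : ι → F} (hv : B b v = 0) : sv B b v (Q v) ∈ eGroup B Q a b :=
  Subgroup.subset_closure ⟨v, Or.inr ⟨hv, rfl⟩⟩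

theorem facts {g : GL ι F} (hg : g ∈ eGroup B Q a b) : Iso B g ∧ ∀ x, Q (ap g x) = Q x := by
  induction hg using Subgroup.closure_induction with
  | mem x hx =>
    obtain ⟨v, ⟨hv, rfl⟩ | ⟨hv, rfl⟩⟩ := hx
    · exact ⟨iso_sv hH.alt hv _, quad_sv hH.polar hH.alt hH.left hv⟩
    · exact ⟨iso_sv hH.alt hv _, quad_sv hH.polar hH.alt hH.right hv⟩
  | one => exact ⟨fun x y => by simp, fun x => by simp⟩
  | mul x y _ _ hx hy => exact ⟨hx.1.mul hy.1, fun z => by rw [ap_mul, hx.2, hy.2]⟩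
  | inv x _ hx =>
    exact ⟨hx.1.inv, fun z => by conv_rhs => rw [← ap_ap_inv x z, hx.2]⟩

theorem quad_proj (x : ι → F) : Q x = Q (proj B a b x) + B x a * B x b := by
  have hB := hH.alt
  rw [proj_apply, quad_add hH.polar, quad_add hH.polar, quad_smul, quad_smul, hH.left, hH.right]
  simp only [map_add, map_smul, LinearMap.add_apply, LinearMap.smul_apply, smul_eq_mul,
    hH.pair, mul_zero, mul_one, add_zero]
  linear_combination -(B x a * B x b + B x a * B x b) * CharTwo.two_eq_zero (R := F)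

theorem exists_value [Fintype F] (k : F) : ∃ v, B a v = 0 ∧ B b v = 0 ∧ Q v = k := by
  have hB := hH.alt
  suffices ∃ v, B a v = 0 ∧ B b v = 0 ∧ Q v ≠ 0 by
    obtain ⟨v, hav, hbv, hv⟩ := this
    obtain ⟨r, hr⟩ := surjective_frobenius F 2 (k / Q v)
    rw [frobenius_def, pow_two] at hr
    exact ⟨r • v, by simp [hav], by simp [hbv], by rw [quad_smul, hr, div_mul_cancel₀ _ hv]⟩
  obtain ⟨u, hu0, hau, hbu⟩ := hB.exists_perp_pair hH.card a b hH.pair
  obtain ⟨u', hau', hbu', huu'⟩ := hB.exists_zero_zero_one (a := a) (z := b) (v := u)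
    (fun t ht => by
      have h1 : B a b = 0 := by rw [ht]; simp [hB.self]
      rw [hH.pair] at h1; exact one_ne_zero h1)
    (fun h => by have := hH.pair; rw [h] at this; simp at this)
    (fun s t hst => hu0 (by
      have h1 : B a u = t := by rw [hst]; simp [hB.self, hH.pair]
      have h2 : B b u = s := by rw [hst]; simp [hB.self, hH.swap_eq]
      rw [hau] at h1; rw [hbu] at h2
      rw [hst, ← h1, ← h2]; simp))
  by_cases h1 : Q u = 0
  · by_cases h2 : Q u' = 0
    · exact ⟨u + u', by simp [hau, hau'], by simp [hbu, hbu'], by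
        rw [quad_add hH.polar, h1, h2, huu']; simp⟩
    · exact ⟨u', hau', hbu', h2⟩
  · exact ⟨u, hau, hbu, h1⟩

/-- An element swapping the two points with factor `k`. -/
theorem exists_swap [Fintype F] {k : F} (hk : k ≠ 0) :
    ∃ h ∈ eGroup B Q a b, ap h a = k⁻¹ • b ∧ ap h b = k • a := by
  have hB := hH.alt
  obtain ⟨v, hav, hbv, hv⟩ := hH.exists_value k
  have hva : B v a = 0 := by rw [hB.comm]; exact hav
  have hvb : B v b = 0 := by rw [hB.comm]; exact hbv
  have h1 := hH.mem_left hav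
  have h2 := hH.mem_right (v := k⁻¹ • v) (by simp [hbv])
  rw [hv] at h1
  rw [quad_smul, hv, mul_assoc, inv_mul_cancel₀ hk, mul_one] at h2
  refine ⟨_, mul_mem (mul_mem h1 h2) h1, ?_, ?_⟩
  · simp only [ap_mul, ap_sv hB hav, ap_sv hB (show B b (k⁻¹ • v) = 0 by simp [hbv]), map_add,
      map_smul, LinearMap.add_apply, LinearMap.smul_apply, hB.self, hH.pair, hH.swap_eq, hav, hva,
      hbv, hvb, smul_eq_mul, mul_zero, mul_one, add_zero, zero_add, zero_smul, one_smul,
      zero_mul]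
    funext i
    simp only [Pi.add_apply, Pi.smul_apply, smul_eq_mul]
    linear_combination (a i + k⁻¹ * v i) * CharTwo.two_eq_zero (R := F) +
      a i * (inv_mul_cancel₀ hk)
  · simp only [ap_mul, ap_sv hB hav, ap_sv hB (show B b (k⁻¹ • v) = 0 by simp [hbv]), map_add,
      map_smul, LinearMap.add_apply, LinearMap.smul_apply, hB.self, hH.pair, hH.swap_eq, hav, hva,
      hbv, hvb, smul_eq_mul, mul_zero, mul_one, add_zero, zero_add, zero_smul, one_smul,
      zero_mul]
    funext i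
    simp only [Pi.add_apply, Pi.smul_apply, smul_eq_mul]
    linear_combination (v i + b i + k * a i + v i) * CharTwo.two_eq_zero (R := F) +
      (v i + b i + k * a i + v i) * (inv_mul_cancel₀ hk)

theorem singular_orbit [Fintype F] {z : ι → F} (hz0 : z ≠ 0) (hz : Q z = 0) :
    ∃ h ∈ eGroup B Q a b, ∃ s : F, s ≠ 0 ∧ z = s • ap h a := by
  have hB := hH.alt
  obtain ⟨S, hS, hSa, -⟩ := hH.exists_swap (one_ne_zero (α := F))
  rw [inv_one, one_smul] at hSa
  have toA : ∀ y, B y a ≠ 0 → Q y = 0 → ∃ h ∈ eGroup B Q a b, ∃ s : F, s ≠ 0 ∧ y = s • ap h a := by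
    intro y hy hQy
    set y₁ := (B y a)⁻¹ • y with hy₁
    have h1 : B y₁ a = 1 := by simp [hy₁, hy]
    have hQ1 : Q y₁ = 0 := by rw [hy₁, quad_smul, hQy, mul_zero]
    have hp := hH.quad_proj y₁
    rw [hQ1, h1, one_mul] at hp
    have hP : Q (proj B a b y₁) = B y₁ b := CharTwo.add_eq_zero.1 hp.symm
    have hm := hH.mem_left (hB.proj_perp hH.pair y₁).1
    rw [hP] at hm
    refine ⟨_, mul_mem hm hS, B y a, hy, ?_⟩
    rw [ap_mul, hSa, hB.eq_image hH.pair h1, hy₁, smul_smul, mul_inv_cancel₀ hy, one_smul]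
  by_cases hza : B z a ≠ 0
  · exact toA z hza hz
  push Not at hza
  by_cases hzb : B z b ≠ 0
  · obtain ⟨T, hT, -, hTb⟩ := hH.exists_swap (one_ne_zero (α := F))
    rw [one_smul] at hTb
    obtain ⟨hTi, hTQ⟩ := hH.facts hT
    obtain ⟨h, hh, s, hs, he⟩ := toA (ap T z) (by rw [← hTb, hTi]; exact hzb) (by rwa [hTQ])
    refine ⟨T⁻¹ * h, mul_mem (inv_mem hT) hh, s, hs, ?_⟩
    rw [ap_mul, ← map_smul, ← he, ap_inv_ap]
  push Not at hzb
  have hzz : ∀ t : F, z ≠ t • a := fun t ht => hz0 (by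
    have : t = 0 := by rw [ht] at hzb; simpa [hH.pair] using hzb
    rw [ht, this, zero_smul])
  obtain ⟨u, hu0, hu1⟩ := hB.exists_zero_one hzz
  -- `z + a` is in the image of `a` under the radical of `b`
  have hbz : B b z = 0 := by rw [hB.comm]; exact hzb
  have hm1 := hH.mem_right hbz
  have hm2 := hH.mem_left hu0
  refine ⟨_, mul_mem hm2 hm1, 1, one_ne_zero, ?_⟩
  rw [one_smul, ap_mul, ap_sv hB hbz, hz, hH.pair, hB.comm a z, hza]
  simp only [one_smul, zero_smul, zero_mul, add_zero, map_add, ap_sv_self hB hu0]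
  rw [ap_sv hB hu0, hza, hu1]
  funext i
  simp only [Pi.add_apply, Pi.smul_apply, smul_eq_mul]
  linear_combination -(a i) * CharTwo.two_eq_zero (R := F)

theorem nonsingular_orbit [Fintype F] {u : ι → F} (hu : Q u ≠ 0) :
    ∃ h ∈ eGroup B Q a b, ∃ s : F, s ≠ 0 ∧ u = s • ap h (a + b) := by
  have hB := hH.alt
  have main : ∀ y, B y a ≠ 0 → Q y ≠ 0 →
      ∃ h ∈ eGroup B Q a b, ∃ s : F, s ≠ 0 ∧ y = s • ap h (a + b) := by
    intro y hy hQy
    set y₁ := (B y a)⁻¹ • y with hy₁
    have h1 : B y₁ a = 1 := by simp [hy₁, hy]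
    have hQ1 : Q y₁ ≠ 0 := by
      rw [hy₁, quad_smul]
      exact mul_ne_zero (mul_ne_zero (inv_ne_zero hy) (inv_ne_zero hy)) hQy
    obtain ⟨k, hk⟩ := surjective_frobenius F 2 (Q y₁)
    rw [frobenius_def, pow_two] at hk
    have hk0 : k ≠ 0 := by rintro rfl; exact hQ1 (by rw [← hk, mul_zero])
    obtain ⟨S, hS, hSa, hSb⟩ := hH.exists_swap hk0
    have hm := hH.mem_left (hB.proj_perp hH.pair y₁).1
    refine ⟨_, mul_mem hm hS, B y a * k, mul_ne_zero hy hk0, ?_⟩
    have h2 : k • ap S (a + b) = b + Q y₁ • a := by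
      rw [map_add, hSa, hSb, smul_add, smul_smul, smul_smul, mul_inv_cancel₀ hk0, one_smul, hk]
    rw [ap_mul, ← smul_smul, ← map_smul, h2]
    have h3 : y₁ = ap (sv B a (proj B a b y₁) (Q (proj B a b y₁))) (b + Q y₁ • a) := by
      have hp := hH.quad_proj y₁
      rw [h1, one_mul] at hp
      have e1 : sv B a (proj B a b y₁) (Q (proj B a b y₁)) =
          sv B a (proj B a b y₁) (B y₁ b) * sv B a 0 (Q y₁) := by
        rw [sv_mul hB (hB.proj_perp hH.pair y₁).1 (by simp), add_zero, map_zero, add_zero, hp]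
        congr 1
        linear_combination -(B y₁ b) * CharTwo.two_eq_zero (R := F)
      rw [e1, ap_mul, ap_sv hB (v := 0) (by simp)]
      simp only [map_zero, map_add, map_smul, LinearMap.add_apply, LinearMap.smul_apply, hB.self,
        hH.swap_eq, smul_eq_mul, zero_smul, smul_zero, mul_zero, mul_one, add_zero]
      rw [add_assoc, two_smul_eq_zero, add_zero, hB.eq_image hH.pair h1]
    rw [← h3, hy₁, smul_smul, mul_inv_cancel₀ hy, one_smul]
  by_cases hua : B u a ≠ 0
  · exact main u hua hu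
  push Not at hua
  by_cases hub : B u b ≠ 0
  · obtain ⟨S, hS, -, hSb⟩ := hH.exists_swap (one_ne_zero (α := F))
    rw [one_smul] at hSb
    obtain ⟨hSi, hSQ⟩ := hH.facts hS
    obtain ⟨h, hh, s, hs, he⟩ := main (ap S u) (by rw [← hSb, hSi]; exact hub) (by rwa [hSQ])
    refine ⟨S⁻¹ * h, mul_mem (inv_mem hS) hh, s, hs, ?_⟩
    rw [ap_mul, ← map_smul, ← he, ap_inv_ap]
  push Not at hub
  obtain ⟨v, hv0, hv1⟩ := hB.exists_zero_one (a := b) (z := u) fun t ht => by
    rw [ht, quad_smul, hH.right, mul_zero] at hu; exact hu rfl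
  have hm := hH.mem_right hv0
  obtain ⟨hgi, hgQ⟩ := hH.facts hm
  have h1 : ap (sv B b v (Q v)) u = u + b := by
    rw [ap_sv hB hv0, hub, hv1]; simp
  obtain ⟨h, hh, s, hs, he⟩ := main (ap (sv B b v (Q v)) u)
    (by rw [h1]; simp [hua, hH.swap_eq]) (by rwa [hgQ])
  refine ⟨(sv B b v (Q v))⁻¹ * h, mul_mem (inv_mem hm) hh, s, hs, ?_⟩
  rw [ap_mul, ← map_smul, ← he, ap_inv_ap]

end HPair

end CfsgLib.TwoTransSp
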