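import Cfsg.Agent.Lib.TwoTransSp.Orbit
import Cfsg.Agent.Lib.Orth.CharTwo
import Cfsg.Agent.Lib.Orth.Lagrangian

/-!
The group of the root elements of a hyperbolic pair is the even-rank subgroup of the orthogonal group.
-/

set_option autoImplicit false
set_option linter.unusedSectionVars false
set_option linter.unusedSimpArgs false

namespace CfsgLib.TwoTransSp

open CfsgLib.Orth

variable {ι : Type} [Fintype ι] [DecidableEq ι] {F : Type*} [Field F] [CharP F 2]
  {B : LinearMap.BilinForm F (ι → F)} {Q : QuadraticForm F (ι → F)} {a b : ι → F}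

theorem app_eq_ap (g : O Q) (x : ι → F) : app g x = ap (g : GL ι F) x := rfl

theorem mem_O_of {g : GL ι F} (h : ∀ x, Q (ap g x) = Q x) : g ∈ O Q := fun u _ => h u

namespace HPair

variable (hH : HPair B Q a b)
include hH

theorem nondeg : Q.polarBilin.Nondegenerate := by
  have h : ∀ x : ι → F, (∀ y, Q.polarBilin x y = 0) → x = 0 := fun x hx =>
    hH.alt.nd x fun y => by rw [← hH.polar]; exact hx y
  refine ⟨h, fun x hx => h x fun y => ?_⟩
  rw [QuadraticMap.polarBilin_apply_apply, QuadraticMap.polar_comm]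
  exact hx y

theorem eGroup_le : eGroup B Q a b ≤ O Q := fun _ hg => mem_O_of (hH.facts hg).2

theorem fix_sv {z v : ι → F} (hz : Q z = 0) (hv : B z v = 0) (g : O Q)
    (hg : (g : GL ι F) = sv B z v (Q v)) (hind : ∀ t : F, v ≠ t • z) (hz0 : z ≠ 0) :
    Module.finrank F (fixS g) + 2 = Fintype.card ι := by
  classical
  have hB := hH.alt
  have hval : ∀ x, x - app g x = B x z • v + (B x v + Q v * B x z) • z := fun x => by
    rw [app_eq_ap, hg, ap_sv hB hv]
    funext i
    simp only [Pi.sub_apply, Pi.add_apply, Pi.smul_apply, smul_eq_mul]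
    linear_combination -(B x z * v i + (B x v + Q v * B x z) * z i) * CharTwo.two_eq_zero (R := F)
  have hmov : movS g = Submodule.span F ({z, v} : Set (ι → F)) := by
    refine le_antisymm (fun y hy => ?_) (Submodule.span_le.2 ?_)
    · obtain ⟨x, rfl⟩ := mem_movS.1 hy
      rw [hval]
      exact Submodule.add_mem _ (Submodule.smul_mem _ _ (Submodule.subset_span (by simp)))
        (Submodule.smul_mem _ _ (Submodule.subset_span (by simp)))
    · obtain ⟨u, hu0, hu1⟩ := hB.exists_zero_one hind
      have hz' : z ∈ movS g := mem_movS.2 ⟨u, by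
        rw [hval, hB.comm u z, hu0, hB.comm u v, hu1]; simp⟩
      obtain ⟨x, hx⟩ := hB.exists_one hz0
      have hv' : v ∈ movS g := by
        have h1 : x - app g x ∈ movS g := mem_movS.2 ⟨x, rfl⟩
        rw [hval, hB.comm x z, hx, one_smul] at h1
        exact (Submodule.add_mem_iff_left _ (Submodule.smul_mem _ _ hz')).1 h1
      intro y hy
      rcases hy with rfl | rfl
      · exact hz'
      · exact hv'
  have hind' : LinearIndependent F ![z, v] :=
    (LinearIndependent.pair_iff' hz0).2 fun t => (hind t).symm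
  have hdim : Module.finrank F (movS g) = 2 := by
    rw [hmov, show ({z, v} : Set (ι → F)) = Set.range ![z, v] from
      (Matrix.range_cons_cons_empty z v _).symm, finrank_span_eq_card hind', Fintype.card_fin]
  have h1 := LinearMap.finrank_range_add_finrank_ker
    ((LinearMap.id : (ι → F) →ₗ[F] (ι → F)) - app g)
  rw [Module.finrank_fintype_fun_eq_card] at h1
  rw [movS] at hdim
  rw [fixS]
  omega

theorem dickson_sv {z v : ι → F} (hz : Q z = 0) (hv : B z v = 0) (g : O Q)
    (hg : (g : GL ι F) = sv B z v (Q v)) : dickson g = 1 := by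
  have h1 : ∀ {t : F}, v = t • z → g = 1 := fun {t} ht => by
    refine Subtype.ext ?_
    rw [hg, ht, quad_smul, hz, mul_zero]
    have h2 := sv_add_smul hH.alt (z := z) (v := 0) (by simp) t 0
    rw [zero_add, sv_zero hH.alt] at h2
    exact h2
  by_cases hind : ∀ t : F, v ≠ t • z
  swap
  · push Not at hind
    obtain ⟨t, ht⟩ := hind
    rw [h1 ht, dickson_one]
  rcases eq_or_ne z 0 with rfl | hz0
  · have hg1 : g = 1 := Subtype.ext (ext_ap fun x => by
      rw [hg, ap_sv hH.alt hv]; simp)
    rw [hg1, dickson_one]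
  have h2 := hH.fix_sv hz hv g hg hind hz0
  rw [dickson, show Fintype.card ι - Module.finrank F (fixS g) = 2 by omega]
  simp

/-- The group of the root elements inside the orthogonal group. -/
def eO (_hH : HPair B Q a b) : Subgroup (O Q) := (eGroup B Q a b).subgroupOf (O Q)

theorem mem_eO {g : O Q} : g ∈ hH.eO ↔ (g : GL ι F) ∈ eGroup B Q a b := Iff.rfl

theorem refl_left : app (refl Q (a + b)) a = b ∧ app (refl Q (a + b)) b = a ∧
    ∀ x, B x a = 0 → B x b = 0 → app (refl Q (a + b)) x = x := by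
  have hQ : Q (a + b) = 1 := by
    rw [quad_add hH.polar, hH.left, hH.right, hH.pair]; simp
  refine ⟨?_, ?_, fun x hxa hxb => ?_⟩
  · rw [app_refl, hQ, hH.polar, map_add, hH.alt.self, hH.pair, sub_eq_add']
    simp [← add_assoc, two_smul_eq_zero]
  · rw [app_refl, hQ, hH.polar, map_add, hH.alt.self, hH.swap_eq, sub_eq_add']
    simp [add_comm a b, ← add_assoc, two_smul_eq_zero]
  · exact app_refl_of_ortho (by rw [hH.polar, map_add, hxa, hxb, add_zero])

theorem refl_normalizes {e : O Q} (he : e ∈ hH.eO) :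
    refl Q (a + b) * e * refl Q (a + b) ∈ hH.eO := by
  set r := refl Q (a + b)
  obtain ⟨hra, hrb, -⟩ := hH.refl_left
  have hri : Iso B (r : GL ι F) := fun x y => by
    rw [← hH.polar, ← hH.polar, ← app_eq_ap, ← app_eq_ap, polar_app]
  suffices key : eGroup B Q a b ≤
      (eGroup B Q a b).comap (MulAut.conj (r : GL ι F)).toMonoidHom by
    have h2 : (r : GL ι F) * (e : GL ι F) * (r : GL ι F)⁻¹ ∈ eGroup B Q a b :=
      key (hH.mem_eO.1 he)
    rw [hH.mem_eO, Subgroup.coe_mul, Subgroup.coe_mul]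
    rwa [show ((r : GL ι F))⁻¹ = (r : GL ι F) from by
      rw [← Subgroup.coe_inv, refl_inv]] at h2
  rw [eGroup, Subgroup.closure_le]
  rintro g ⟨v, ⟨hv, rfl⟩ | ⟨hv, rfl⟩⟩ <;>
    show (r : GL ι F) * _ * (r : GL ι F)⁻¹ ∈ eGroup B Q a b
  · rw [conj_sv hH.alt hri hv, ← app_eq_ap, ← app_eq_ap, hra,
      ← Q_app r v]
    exact hH.mem_right (by rw [← hra, app_eq_ap, app_eq_ap, hri, hv])
  · rw [conj_sv hH.alt hri hv, ← app_eq_ap, ← app_eq_ap, hrb,
      ← Q_app r v]
    exact hH.mem_left (by rw [← hrb, app_eq_ap, app_eq_ap, hri, hv])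

/-- The root group together with its coset by a reflection. -/
def extend : Subgroup (O Q) where
  carrier := {g | g ∈ hH.eO ∨ g * refl Q (a + b) ∈ hH.eO}
  one_mem' := Or.inl (one_mem _)
  mul_mem' {x y} hx hy := by
    rcases hx with hx | hx <;> rcases hy with hy | hy
    · exact Or.inl (mul_mem hx hy)
    · exact Or.inr (by rw [mul_assoc]; exact mul_mem hx hy)
    · refine Or.inr ?_
      have := mul_mem hx (hH.refl_normalizes hy)
      simp only [← mul_assoc] at this
      rwa [mul_assoc x, refl_mul_self, mul_one] at this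
    · refine Or.inl ?_
      have := mul_mem hx (hH.refl_normalizes hy)
      simp only [mul_assoc, refl_mul_self, mul_one] at this
      rw [← mul_assoc (refl Q (a + b)) (refl Q (a + b)), refl_mul_self, one_mul] at this
      exact this
  inv_mem' {x} hx := by
    rcases hx with hx | hx
    · exact Or.inl (inv_mem hx)
    · refine Or.inr ?_
      have := hH.refl_normalizes (inv_mem hx)
      rw [mul_inv_rev, refl_inv, ← mul_assoc, refl_mul_self, one_mul] at this
      exact this

theorem refl_mem_extend [Fintype F] (u : ι → F) : refl Q u ∈ hH.extend := by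
  rcases eq_or_ne (Q u) 0 with hu | hu
  · rw [refl_eq_one hu]; exact one_mem _
  obtain ⟨h, hh, s, hs, he⟩ := hH.nonsingular_orbit hu
  let h' : O Q := ⟨h, hH.eGroup_le hh⟩
  have e : refl Q u = h' * refl Q (a + b) * h'⁻¹ := by
    rw [refl_conj, he, refl_smul hs]
    rfl
  refine Or.inr ?_
  rw [e, mul_assoc h', mul_assoc h']
  exact mul_mem (show h' ∈ hH.eO from hh) (hH.refl_normalizes (inv_mem (show h' ∈ hH.eO from hh)))

theorem extend_eq_top_of_gen [Fintype F] (hgen : reflClosure Q = ⊤) : hH.extend = ⊤ := by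
  rw [eq_top_iff, ← hgen, reflClosure, Subgroup.closure_le]
  rintro _ ⟨u, rfl⟩
  exact hH.refl_mem_extend u

theorem dickson_of_gen (hgen : reflClosure Q = ⊤) {g : O Q} (hg : g ∈ hH.eO) :
    dickson g = 1 := by
  have hle : eGroup B Q a b ≤ ((dicksonHom hH.nondeg hgen).ker).map (O Q).subtype := by
    rw [eGroup, Subgroup.closure_le]
    rintro x ⟨v, ⟨hv, rfl⟩ | ⟨hv, rfl⟩⟩
    · exact ⟨⟨_, hH.eGroup_le (hH.mem_left hv)⟩, hH.dickson_sv hH.left hv _ rfl, rfl⟩
    · exact ⟨⟨_, hH.eGroup_le (hH.mem_right hv)⟩, hH.dickson_sv hH.right hv _ rfl, rfl⟩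
  obtain ⟨g', hg', he⟩ := hle (hH.mem_eO.1 hg)
  obtain rfl : g' = g := Subtype.ext he
  exact hg'

end HPair

end CfsgLib.TwoTransSp
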