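import Cfsg.Agent.Lib.TwoTransSp.Centre

/-!
Without transvections, the complement of the transvection group of each centre is the one of the
isometries of a single quadratic form.
-/

set_option autoImplicit false
set_option linter.unusedSectionVars false
set_option linter.unusedSimpArgs false

namespace CfsgLib.TwoTransSp

variable {ι : Type} [Fintype ι] [DecidableEq ι] {F : Type*} [Field F] [CharP F 2]
  {B : LinearMap.BilinForm F (ι → F)} {L : Subgroup (GL ι F)}

/-- `L` contains no transvection of a full centre. -/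
def NoT (B : LinearMap.BilinForm F (ι → F)) (L : Subgroup (GL ι F)) : Prop :=
  ∀ z, Full B L z → ∀ c, sv B z 0 c ∈ L → c = 0

/-- For orthogonal full centres the element with scalar `0` lies in `L`. -/
def Perp (B : LinearMap.BilinForm F (ι → F)) (L : Subgroup (GL ι F)) : Prop :=
  ∀ a z, Full B L a → Full B L z → B a z = 0 → sv B a z 0 ∈ L

theorem Setup.perp_of_noT (hS : Setup B L) (hT : NoT B L)
    (h : (∃ t : F, t ≠ 0 ∧ t ≠ 1) ∨ 6 ≤ Fintype.card ι) : Perp B L := by
  classical
  intro a z ha hz haz
  have hB := hS.alt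
  by_cases hind : ∀ t : F, z ≠ t • a
  swap
  · push Not at hind
    obtain ⟨t, rfl⟩ := hind
    have h1 := sv_add_smul hB (z := a) (v := 0) (by simp) t 0
    rw [zero_add, sv_zero hB] at h1
    rw [h1]
    exact one_mem _
  rcases h with ⟨t, ht0, ht1⟩ | h6
  · obtain ⟨c, hc⟩ := ha.2 z haz
    have h1 : sv B a 0 ((t * t + 1) * c) ∈ L :=
      hS.torus_step ha hz haz hind ht0 (s := 1) (by rwa [one_smul])
    have h2 := hT a ha _ h1
    rcases mul_eq_zero.1 h2 with h3 | h3
    · exact absurd h3 (sq_add_one_ne_zero ht1)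
    · rwa [h3] at hc
  · obtain ⟨ua, hua0, hua1⟩ := hB.exists_zero_one (a := z) (z := a) fun t ht => by
      rcases eq_or_ne t 0 with rfl | h0
      · exact ha.1 (by simpa using ht)
      · exact hind t⁻¹ (by rw [ht, smul_smul, inv_mul_cancel₀ h0, one_smul])
    obtain ⟨uz, huz0, huz1⟩ := hB.exists_zero_one hind
    obtain ⟨x, -, hx⟩ := SetLike.exists_of_lt
      (show Submodule.span F (({a, z, ua, uz} : Finset (ι → F)) : Set (ι → F)) < ⊤ by
        refine Ne.lt_top fun h => ?_
        have h1 := finrank_span_finset_le_card (R := F) ({a, z, ua, uz} : Finset (ι → F))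
        rw [Set.finrank, h, finrank_top, Module.finrank_fintype_fun_eq_card] at h1
        have := Finset.card_le_four (a := a) (b := z) (c := ua) (d := uz)
        omega)
    set v := x + B a x • ua + B z x • uz with hv
    have hav : B a v = 0 := by simp [hv, hua1, huz0, CharTwo.add_self_eq_zero]
    have hzv : B z v = 0 := by simp [hv, hua0, huz1, CharTwo.add_self_eq_zero]
    have hvs : ∀ s t : F, v ≠ s • a + t • z := fun s t hst => hx (by
      rw [show x = s • a + t • z + B a x • ua + B z x • uz from funext fun i => by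
        have e := congrFun hst i
        simp only [hv, Pi.add_apply, Pi.smul_apply, smul_eq_mul] at e ⊢
        linear_combination e - (B a x * ua i + B z x * uz i) * CharTwo.two_eq_zero (R := F)]
      refine Submodule.add_mem _ (Submodule.add_mem _ (Submodule.add_mem _ ?_ ?_) ?_) ?_ <;>
        exact Submodule.smul_mem _ _ (Submodule.subset_span (by simp)))
    obtain ⟨w, haw, hzw, hvw⟩ := hB.exists_zero_zero_one hind ha.1 hvs
    obtain ⟨c, hc⟩ := ha.2 v hav
    obtain ⟨d, hd⟩ := hz.2 w hzw
    have h1 := hS.conj_mem hc hzw hd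
    have e1 : ap (sv B a v c) z = z := by
      simp [ap_sv hB hav, hB.comm z a, haz, hzv]
    have e2 : ap (sv B a v c) w = w + a := by
      simp [ap_sv hB hav, hB.comm w a, haw, hB.comm w v, hvw]
    rw [e1, e2] at h1
    have h2 := mul_mem h1 hd
    rw [sv_mul hB (by simp [hzw, hB.comm z a, haz]) hzw, CharTwo.add_self_eq_zero, zero_add,
      show B (w + a) w = 0 by simp [hB.self, haw],
      show w + a + w = a by rw [add_comm w a, add_assoc, two_smul_eq_zero, add_zero]] at h2
    rwa [sv_swap hB (by rw [hB.comm]; exact haz)] at h2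

open scoped Classical in
/-- The scalar of the element of `L` with centre `a` and vector `v`. -/
noncomputable def phi (B : LinearMap.BilinForm F (ι → F)) (L : Subgroup (GL ι F)) (a v : ι → F) :
    F :=
  if h : ∃ c, sv B a v c ∈ L then h.choose else 0

theorem phi_spec {a v : ι → F} (ha : Full B L a) (hv : B a v = 0) :
    sv B a v (phi B L a v) ∈ L := by
  rw [phi, dif_pos (ha.2 v hv)]
  exact (ha.2 v hv).choose_spec

/-- The standing hypotheses of the case without transvections. -/
structure Ctx (B : LinearMap.BilinForm F (ι → F)) (L : Subgroup (GL ι F)) : Prop where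
  setup : Setup B L
  noT : NoT B L
  perp : Perp B L

namespace Ctx

variable (hC : Ctx B L)
include hC

theorem phi_eq {a v : ι → F} (ha : Full B L a) (hv : B a v = 0) {c : F} (hc : sv B a v c ∈ L) :
    phi B L a v = c := by
  have h := mul_mem (phi_spec ha hv) hc
  rw [sv_mul hC.setup.alt hv hv, two_smul_eq_zero, hC.setup.alt.self, add_zero] at h
  exact CharTwo.add_eq_zero.1 (hC.noT a ha _ h)

theorem phi_add {a v w : ι → F} (ha : Full B L a) (hv : B a v = 0) (hw : B a w = 0) :
    phi B L a (v + w) = phi B L a v + phi B L a w + B v w := by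
  refine hC.phi_eq ha (by simp [hv, hw]) ?_
  rw [← sv_mul hC.setup.alt hv hw]
  exact mul_mem (phi_spec ha hv) (phi_spec ha hw)

theorem phi_zero {a : ι → F} (ha : Full B L a) : phi B L a 0 = 0 :=
  hC.phi_eq ha (by simp) (by rw [sv_zero hC.setup.alt]; exact one_mem _)

theorem phi_shift {a v : ι → F} (ha : Full B L a) (hv : B a v = 0) (t : F) :
    phi B L a (v + t • a) = phi B L a v :=
  hC.phi_eq ha (by simp [hv, hC.setup.alt.self]) (by
    rw [sv_add_smul hC.setup.alt hv]; exact phi_spec ha hv)

theorem phi_conj {a v : ι → F} (ha : Full B L a) (hv : B a v = 0) {h : GL ι F} (hh : h ∈ L) :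
    phi B L (ap h a) (ap h v) = phi B L a v :=
  hC.phi_eq (ha.map hC.setup hh) (by rw [hC.setup.iso h hh]; exact hv)
    (hC.setup.conj_mem hh hv (phi_spec ha hv))

theorem phi_smul_centre {a v : ι → F} (ha : Full B L a) (hv : B a v = 0) {t : F} (ht : t ≠ 0) :
    phi B L a (t • v) = t * t * phi B L (t • a) v := by
  refine hC.phi_eq ha (by simp [hv]) ?_
  rw [← sv_smul_left hC.setup.alt hv]
  exact phi_spec (ha.smul hC.setup ht) (by simp [hv])

theorem phi_perp {a z : ι → F} (ha : Full B L a) (hz : Full B L z) (h : B a z = 0) :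
    phi B L a z = 0 :=
  hC.phi_eq ha h (hC.perp a z ha hz h)

/-- A zero for the centre `b` makes a whole line of zeros for the centre `a`. -/
theorem zero_line {a b w : ι → F} (ha : Full B L a) (hb : Full B L b) (hab : B a b = 1)
    (haw : B a w = 0) (hbw : B b w = 0) (h0 : phi B L b w = 0) (s : F) :
    phi B L a (s • w) = 0 := by
  rcases eq_or_ne s 0 with rfl | hs
  · rw [zero_smul]; exact hC.phi_zero ha
  have hm := phi_spec hb hbw
  rw [h0] at hm
  have hz : Full B L (s • (a + w)) := by
    have h1 := (ha.map hC.setup hm).smul hC.setup hs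
    rwa [ap_sv hC.setup.alt hbw, hab, haw, one_smul, zero_mul, zero_smul,
      add_zero, add_zero] at h1
  have h2 := hC.phi_perp ha hz (by simp [hC.setup.alt.self, haw])
  rwa [smul_add, add_comm, hC.phi_shift ha (by simp [haw])] at h2

theorem pair_of_zero {a b w : ι → F} (ha : Full B L a) (hb : Full B L b) (hab : B a b = 1)
    (hw0 : w ≠ 0) (haw : B a w = 0) (hbw : B b w = 0) (h0 : phi B L b w = 0) :
    ∀ v, B a v = 0 → B b v = 0 →
      (∀ s : F, phi B L a (s • v) = s * s * phi B L a v) ∧ phi B L b v = phi B L a v := by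
  have hB := hC.setup.alt
  have hba : B b a = 1 := by rw [hB.comm]; exact hab
  have fa : ∀ s : F, phi B L a (s • w) = 0 := hC.zero_line ha hb hab haw hbw h0
  have fb : ∀ s : F, phi B L b (s • w) = 0 :=
    hC.zero_line hb ha hba hbw haw (by simpa using fa 1)
  -- vectors not orthogonal to `w`
  have off : ∀ e, B a e = 0 → B b e = 0 → B e w = 1 → ∀ s : F,
      phi B L a (s • e) = s * s * phi B L a e ∧ phi B L b (s • e) = s * s * phi B L a e := by
    intro e hae hbe hew s
    set k := phi B L a e
    set e' := e + k • w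
    have hae' : B a e' = 0 := by simp [e', hae, haw]
    have hbe' : B b e' = 0 := by simp [e', hbe, hbw]
    have he'w : B e' w = 1 := by simp [e', hew, hB.self]
    have h1 : phi B L a e' = 0 := by
      rw [hC.phi_add ha hae (by simp [haw]), fa, map_smul, hew, smul_eq_mul, mul_one, add_zero,
        CharTwo.add_self_eq_zero]
    have gb : ∀ r : F, phi B L b (r • e') = 0 := hC.zero_line hb ha hba hbe' hae' h1
    have ga : ∀ r : F, phi B L a (r • e') = 0 :=
      hC.zero_line ha hb hab hae' hbe' (by simpa using gb 1)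
    have hse : s • e = s • e' + (s * k) • w := by
      funext i
      simp only [e', Pi.add_apply, Pi.smul_apply, smul_eq_mul]
      linear_combination -(s * k * w i) * CharTwo.two_eq_zero (R := F)
    constructor
    · rw [hse, hC.phi_add ha (by simp [hae']) (by simp [haw]), ga, fa]
      simp [he'w]; ring
    · rw [hse, hC.phi_add hb (by simp [hbe']) (by simp [hbw]), gb, fb]
      simp [he'w]; ring
  have off' : ∀ v, B a v = 0 → B b v = 0 → B v w ≠ 0 → ∀ s : F,
      phi B L a (s • v) = s * s * phi B L a v ∧ phi B L b (s • v) = s * s * phi B L a v := by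
    intro v hav hbv hr s
    have h := off ((B v w)⁻¹ • v) (by simp [hav]) (by simp [hbv]) (by simp [hr])
    have h1 := h (s * B v w)
    have h2 := (h (B v w)).1
    rw [smul_smul, mul_inv_cancel₀ hr, one_smul] at h2
    rw [smul_smul, mul_assoc, mul_inv_cancel₀ hr, mul_one] at h1
    refine ⟨?_, ?_⟩
    · rw [h1.1, h2]; ring
    · rw [h1.2, h2]; ring
  obtain ⟨e₀, hae₀, hbe₀, hwe₀⟩ := hB.exists_zero_zero_one (a := a) (z := b) (v := w)
    (fun t ht => by
      have h1 : B a b = 0 := by rw [ht]; simp [hB.self]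
      rw [hab] at h1; exact one_ne_zero h1) ha.1
    (fun s t hst => hw0 (by
      have h1 : B a w = t := by rw [hst]; simp [hB.self, hab]
      have h2 : B b w = s := by rw [hst]; simp [hB.self, hba]
      rw [haw] at h1; rw [hbw] at h2
      rw [hst, ← h1, ← h2]; simp))
  have he₀w : B e₀ w ≠ 0 := by rw [hB.comm, hwe₀]; exact one_ne_zero
  intro v hav hbv
  suffices ∀ s : F, phi B L a (s • v) = s * s * phi B L a v ∧
      phi B L b (s • v) = s * s * phi B L a v from
    ⟨fun s => (this s).1, by simpa using (this 1).2⟩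
  intro s
  by_cases hr : B v w = 0
  swap
  · exact off' v hav hbv hr s
  have hx := off' (v + e₀) (by simp [hav, hae₀]) (by simp [hbv, hbe₀])
    (by simpa [hr] using he₀w)
  have hy := off' e₀ hae₀ hbe₀ he₀w
  have hv : v = (v + e₀) + e₀ := by rw [add_assoc, two_smul_eq_zero, add_zero]
  have hva : phi B L a v = phi B L a (v + e₀) + phi B L a e₀ + B (v + e₀) e₀ := by
    conv_lhs => rw [hv]
    exact hC.phi_add ha (by simp [hav, hae₀]) hae₀
  constructor
  · rw [hva, hv, smul_add, hC.phi_add ha (by simp [hav, hae₀]) (by simp [hae₀]), (hx s).1,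
      (hy s).1, ← hv]
    simp; ring
  · rw [hva, hv, smul_add, hC.phi_add hb (by simp [hbv, hbe₀]) (by simp [hbe₀]), (hx s).2,
      (hy s).2, ← hv]
    simp; ring

variable [Fintype F]

theorem surjective_line {a v : ι → F} (ha : Full B L a) (hav : B a v = 0) (hv0 : v ≠ 0)
    (hno : ∀ w, w ≠ 0 → (∃ s : F, w = s • v) → phi B L a w ≠ 0) :
    Function.Surjective fun s : F => phi B L a (s • v) := by
  refine Finite.injective_iff_surjective.1 fun s s' h => ?_
  by_contra hne
  refine hno ((s + s') • v) (smul_ne_zero (fun h0 => hne (CharTwo.add_eq_zero.1 h0)) hv0)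
    ⟨_, rfl⟩ ?_
  rw [add_smul, hC.phi_add ha (by simp [hav]) (by simp [hav]), h, CharTwo.add_self_eq_zero]
  simp [hC.setup.alt.self]

theorem pair_of_no_zero {a b : ι → F} (ha : Full B L a) (hb : Full B L b) (hab : B a b = 1)
    (hna : ∀ w, w ≠ 0 → B a w = 0 → B b w = 0 → phi B L a w ≠ 0)
    (hnb : ∀ w, w ≠ 0 → B a w = 0 → B b w = 0 → phi B L b w ≠ 0) :
    ∀ v, B a v = 0 → B b v = 0 →
      (∀ s : F, phi B L a (s • v) = s * s * phi B L a v) ∧ phi B L b v = phi B L a v := by
  have hB := hC.setup.alt
  have hba : B b a = 1 := by rw [hB.comm]; exact hab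
  have rel : ∀ v, v ≠ 0 → B a v = 0 → B b v = 0 →
      phi B L b ((phi B L a v)⁻¹ • v) = (phi B L a v)⁻¹ := by
    intro v hv0 hav hbv
    set k := phi B L a v
    have hk : k ≠ 0 := hna v hv0 hav hbv
    set m := phi B L b (k⁻¹ • v)
    have hm : sv B b (k⁻¹ • v) m ∈ L := phi_spec hb (by simp [hbv])
    by_contra hne
    have hlam : m + k⁻¹ ≠ 0 := fun h => hne (CharTwo.add_eq_zero.1 h)
    have h1 : Full B L (a + (m + k⁻¹) • b) := by
      have h2 := ((hb.map hC.setup (phi_spec ha hav)).smul hC.setup (inv_ne_zero hk)).map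
        hC.setup hm
      convert h2 using 1
      have e1 : ap (sv B a v k) b = b + v + k • a := by
        simp [ap_sv hB hav, hba, hbv]
      have e2 : k⁻¹ • ap (sv B a v k) b = a + k⁻¹ • v + k⁻¹ • b := by
        rw [e1]
        funext i
        simp only [Pi.add_apply, Pi.smul_apply, smul_eq_mul]
        linear_combination a i * (inv_mul_cancel₀ hk)
      have hvb : B v b = 0 := by rw [hB.comm]; exact hbv
      rw [e2, ap_sv hB (by simp [hbv])]
      simp only [map_add, map_smul, LinearMap.add_apply, LinearMap.smul_apply, hB.self, hab, hvb,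
        hav, hB.comm b v, smul_eq_mul, mul_zero, mul_one, add_zero, zero_smul, zero_add]
      funext i
      simp only [Pi.add_apply, Pi.smul_apply, smul_eq_mul]
      linear_combination -(k⁻¹ * v i) * CharTwo.two_eq_zero (R := F)
    obtain ⟨r, hr⟩ := hC.surjective_line hb hbv hv0 (fun w hw hs => by
      obtain ⟨s, rfl⟩ := hs
      exact hnb _ hw (by simp [hav]) (by simp [hbv])) (m + k⁻¹)
    simp only at hr
    have hbr : B b (r • v) = 0 := by simp [hbv]
    have hr0 : r ≠ 0 := by
      rintro rfl
      rw [zero_smul, hC.phi_zero hb] at hr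
      exact hlam hr.symm
    have h3 : Full B L (a + r • v) := by
      have h4 := h1.map hC.setup (phi_spec hb hbr)
      convert h4 using 1
      rw [hr, ap_sv hB hbr]
      simp only [map_add, map_smul, LinearMap.add_apply, LinearMap.smul_apply, hB.self, hab, hbv,
        hav, smul_eq_mul, mul_zero, mul_one, add_zero, zero_smul, one_smul]
      rw [show a + (m + k⁻¹) • b + r • v + (m + k⁻¹) • b = a + r • v from funext fun i => by
        simp only [Pi.add_apply, Pi.smul_apply, smul_eq_mul]
        linear_combination ((m + k⁻¹) * b i) * CharTwo.two_eq_zero (R := F)]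
    have h5 := hC.phi_perp ha h3 (by simp [hB.self, hav])
    have h6 := hC.phi_shift ha (v := r • v) (by simp [hav]) 1
    rw [one_smul, add_comm] at h6
    rw [h6] at h5
    exact hna _ (smul_ne_zero hr0 hv0) (by simp [hav]) (by simp [hbv]) h5
  have key : ∀ x, x ≠ 0 → B a x = 0 → B b x = 0 → ∀ k : F, k ≠ 0 →
      phi B L a (k • x) = k * k * phi B L b x := by
    intro x hx0 hax hbx k hk
    obtain ⟨s, hs⟩ := hC.surjective_line ha hax hx0 (fun w hw hs => by
      obtain ⟨t, rfl⟩ := hs
      exact hna _ hw (by simp [hax]) (by simp [hbx])) k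
    simp only at hs
    have hs0 : s ≠ 0 := by rintro rfl; rw [zero_smul, hC.phi_zero ha] at hs; exact hk hs.symm
    set v := s • x with hvdef
    have hav : B a v = 0 := by simp [hvdef, hax]
    have hbv : B b v = 0 := by simp [hvdef, hbx]
    have hr := rel v (smul_ne_zero hs0 hx0) hav hbv
    rw [hs] at hr
    have hga := phi_spec (L := L) ha hav
    rw [hs] at hga
    have hgb := phi_spec (L := L) hb (v := k⁻¹ • v) (by simp [hbv])
    rw [hr] at hgb
    have hh : sv B b (k⁻¹ • v) k⁻¹ * sv B a v k ∈ L := mul_mem hgb hga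
    have hxa : B x a = 0 := by rw [hB.comm]; exact hax
    have hxb : B x b = 0 := by rw [hB.comm]; exact hbx
    have hvb : B v b = 0 := by rw [hB.comm]; exact hbv
    have e1 : ap (sv B b (k⁻¹ • v) k⁻¹ * sv B a v k) b = k • a := by
      rw [ap_mul, show ap (sv B a v k) b = b + v + k • a by simp [ap_sv hB hav, hba, hbv],
        ap_sv hB (by simp [hbv])]
      simp only [map_add, map_smul, LinearMap.add_apply, LinearMap.smul_apply, hB.self, hab, hvb,
        hav, hbv, smul_eq_mul, mul_zero, mul_one, add_zero, zero_add, zero_smul]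
      funext i
      simp only [Pi.add_apply, Pi.smul_apply, smul_eq_mul]
      linear_combination (v i + b i) * CharTwo.two_eq_zero (R := F) +
        (v i + b i) * (mul_inv_cancel₀ hk)
    have e2 : ap (sv B b (k⁻¹ • v) k⁻¹ * sv B a v k) x = x := by
      have hxv : B x v = 0 := by simp [hvdef, hB.self]
      simp [ap_sv hB hav, ap_sv hB (show B b (k⁻¹ • v) = 0 by simp [hbv]), hxa, hxb, hxv]
    have h1 := hC.phi_conj hb hbx hh
    rw [e1, e2] at h1
    rw [hC.phi_smul_centre ha hax hk, h1]
  intro v hav hbv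
  rcases eq_or_ne v 0 with rfl | hv0
  · exact ⟨fun s => by simp [hC.phi_zero ha], by rw [hC.phi_zero hb, hC.phi_zero ha]⟩
  have h1 : phi B L a v = phi B L b v := by simpa using key v hv0 hav hbv 1 one_ne_zero
  refine ⟨fun s => ?_, h1.symm⟩
  rcases eq_or_ne s 0 with rfl | hs
  · simp [hC.phi_zero ha]
  · rw [key v hv0 hav hbv s hs, h1]

/-- For two non-orthogonal centres the scalars form one and the same quadratic form. -/
theorem pair {a b : ι → F} (ha : Full B L a) (hb : Full B L b) (hab : B a b = 1) :
    ∀ v, B a v = 0 → B b v = 0 →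
      (∀ s : F, phi B L a (s • v) = s * s * phi B L a v) ∧ phi B L b v = phi B L a v := by
  by_cases hnb : ∀ w, w ≠ 0 → B a w = 0 → B b w = 0 → phi B L b w ≠ 0
  swap
  · push Not at hnb
    obtain ⟨w, hw0, haw, hbw, h0⟩ := hnb
    exact hC.pair_of_zero ha hb hab hw0 haw hbw h0
  refine hC.pair_of_no_zero ha hb hab (fun w hw0 haw hbw h0 => hnb w hw0 haw hbw ?_) hnb
  simpa using hC.zero_line hb ha (by rw [hC.setup.alt.comm]; exact hab) hbw haw h0 1

end Ctx

end CfsgLib.TwoTransSp
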