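import Cfsg.Agent.Lib.TwoTransSp.Orth
import Cfsg.Agent.Lib.OrthOmega.Classes

/-!
The exceptional plus type group in dimension four over the field with two elements, where reflections
do not generate.
-/

set_option autoImplicit false
set_option linter.unusedSectionVars false
set_option linter.unusedSimpArgs false

namespace CfsgLib.TwoTransSp

open CfsgLib.Orth

variable {ι : Type} [Fintype ι] [DecidableEq ι] {F : Type*} [Field F] [CharP F 2] [Fintype F]
  {B : LinearMap.BilinForm F (ι → F)} {Q : QuadraticForm F (ι → F)} {a b : ι → F}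

namespace HPair

variable (hH : HPair B Q a b)
include hH

theorem exists_singular_perp (hf : ∀ t : F, t = 0 ∨ t = 1) (hgen : reflClosure Q ≠ ⊤) :
    ∃ w e, Q w = 0 ∧ Q e = 0 ∧ B a w = 0 ∧ B b w = 0 ∧ B a e = 0 ∧ B b e = 0 ∧ B w e = 1 := by
  have hB := hH.alt
  by_contra hcon
  refine hgen ((Subgroup.eq_top_iff' _).2 fun g => mem_reflClosure hH.nondeg
    (fun u v hu hv huv => ?_) g)
  by_contra hne
  have hu0 : u ≠ 0 := by
    rintro rfl
    refine hne ?_
    rw [show eich Q 0 v = 1 from ext_app fun x => by simp [app_eich hu huv, hv]]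
    exact one_mem _
  have hind : ∀ t : F, v ≠ t • u := by
    rintro t rfl
    refine hne ?_
    rw [eich_smul_self hu]
    exact one_mem _
  obtain ⟨h, hh, s, hs, he⟩ := hH.singular_orbit hu0 hu
  obtain ⟨hi, hQh⟩ := hH.facts hh
  obtain rfl : s = 1 := (hf s).resolve_left hs
  rw [one_smul] at he
  set p := ap h⁻¹ v with hp
  have hQp : Q p = 0 := by rw [← hQh p, hp, ap_ap_inv, hv]
  have hap : B a p = 0 := by rw [← hi, hp, ap_ap_inv, ← he, ← hH.polar, huv]
  set w := proj B a b p with hw
  obtain ⟨haw, hbw⟩ := hB.proj_perp hH.pair p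
  rw [← hw] at haw hbw
  have hQw : Q w = 0 := by
    have h1 := hH.quad_proj p
    rw [hB.comm p a, hap, zero_mul, add_zero, hQp] at h1
    exact h1.symm
  have hw0 : w ≠ 0 := by
    intro h0
    rw [hw, proj_apply, hB.comm p a, hap, zero_smul, add_zero] at h0
    apply hind (B p b)
    have h1 : p = B p b • a := funext fun i => CharTwo.add_eq_zero.1 (congrFun h0 i)
    calc v = ap h p := by rw [hp, ap_ap_inv]
      _ = B p b • ap h a := by conv_lhs => rw [h1, map_smul]
      _ = B p b • u := by rw [he]
  obtain ⟨e, hae, hbe, hwe⟩ := hB.exists_zero_zero_one (a := a) (z := b) (v := w)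
    (fun t ht => by
      have h1 : B a b = 0 := by rw [ht]; simp [hB.self]
      rw [hH.pair] at h1; exact one_ne_zero h1)
    (fun h => by have := hH.pair; rw [h] at this; simp at this)
    (fun s t hst => hw0 (by
      have h1 : B a w = t := by rw [hst]; simp [hB.self, hH.pair]
      have h2 : B b w = s := by rw [hst]; simp [hB.self, hH.swap_eq]
      rw [haw] at h1; rw [hbw] at h2
      rw [hst, ← h1, ← h2]; simp))
  refine hcon ⟨w, e + Q e • w, hQw, ?_, haw, hbw, by simp [hae, haw], by simp [hbe, hbw],
    by simp [hwe, hB.self]⟩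
  rw [quad_add hH.polar, quad_smul, hQw, map_smul, hB.comm e w, hwe]
  simp [CharTwo.add_self_eq_zero]

variable {w e : ι → F} (h4 : Fintype.card ι = 4) (hQw : Q w = 0) (hQe : Q e = 0)
  (haw : B a w = 0) (hbw : B b w = 0) (hae : B a e = 0) (hbe : B b e = 0) (hwe : B w e = 1)
include h4 hQw hQe haw hbw hae hbe hwe

theorem plus_expand (x : ι → F) :
    x = B x b • a + B x a • b + B x e • w + B x w • e := by
  have hB := hH.alt
  let φ : (Fin 4 → F) →ₗ[F] (ι → F) := Fintype.linearCombination F ![a, b, w, e]
  have hφ : ∀ c : Fin 4 → F, φ c = c 0 • a + c 1 • b + c 2 • w + c 3 • e := fun c => by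
    simp [φ, Fintype.linearCombination_apply, Fin.sum_univ_four]
  have hwa : B w a = 0 := by rw [hB.comm]; exact haw
  have hwb : B w b = 0 := by rw [hB.comm]; exact hbw
  have hea : B e a = 0 := by rw [hB.comm]; exact hae
  have heb : B e b = 0 := by rw [hB.comm]; exact hbe
  have hew : B e w = 1 := by rw [hB.comm]; exact hwe
  have hinj : Function.Injective φ := by
    rw [← LinearMap.ker_eq_bot, LinearMap.ker_eq_bot']
    intro c hc
    rw [hφ] at hc
    have key : ∀ y, B (c 0 • a + c 1 • b + c 2 • w + c 3 • e) y = 0 := fun y => by rw [hc]; simp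
    have k0 := key b
    have k1 := key a
    have k2 := key e
    have k3 := key w
    simp [hB.self, hH.pair, hH.swap_eq, hwa, hwb, hea, heb, hwe, hew, hae, hbe, haw, hbw]
      at k0 k1 k2 k3
    funext i; fin_cases i <;> simp_all
  obtain ⟨c, rfl⟩ := ((LinearMap.injective_iff_surjective_of_finrank_eq_finrank
    (by simp [h4])).1 hinj) x
  rw [hφ]
  simp [hB.self, hH.pair, hH.swap_eq, hwa, hwb, hea, heb, hwe, hew, hae, hbe, haw, hbw]

theorem plus_extend (hf : ∀ t : F, t = 0 ∨ t = 1) : hH.extend = ⊤ := by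
  have hB := hH.alt
  refine (Subgroup.eq_top_iff' _).2 fun g => ?_
  have hga0 : app g a ≠ 0 := fun h => by
    have := app_injective g (h.trans (map_zero _).symm)
    have h1 := hH.pair
    rw [this] at h1; simp at h1
  obtain ⟨h, hh, s, hs, he⟩ := hH.singular_orbit hga0 (by rw [Q_app, hH.left])
  obtain rfl : s = 1 := (hf s).resolve_left hs
  rw [one_smul] at he
  let h' : O Q := ⟨h, hH.eGroup_le hh⟩
  set g₁ := h'⁻¹ * g with hg₁
  have h1a : app g₁ a = a := by
    rw [hg₁, app_mul, he, show ap h a = app h' a from rfl, app_inv_app]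
  have hy : B (app g₁ b) a = 1 := by
    conv_lhs => rw [← h1a]
    rw [← hH.polar, polar_app, hH.polar, hH.swap_eq]
  set y := app g₁ b with hydef
  have hP : Q (proj B a b y) = B y b := by
    have hp := hH.quad_proj y
    rw [hydef, Q_app, hH.right, ← hydef, hy, one_mul] at hp
    exact CharTwo.add_eq_zero.1 hp.symm
  let k : O Q := ⟨_, hH.eGroup_le (hH.mem_left (hB.proj_perp hH.pair y).1)⟩
  have hka : app k a = a := ap_sv_self hB (hB.proj_perp hH.pair y).1 _
  have hkb : app k b = y := by
    show ap (sv B a (proj B a b y) (Q (proj B a b y))) b = y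
    rw [hP, hB.eq_image hH.pair hy]
  set g₂ := k⁻¹ * g₁ with hg₂
  have h2a : app g₂ a = a := by rw [hg₂, app_mul, h1a]; conv_lhs => rw [← hka, app_inv_app]
  have h2b : app g₂ b = b := by rw [hg₂, app_mul, ← hydef, ← hkb, app_inv_app]
  have mem2 : g₂ ∈ hH.extend := by
    have ex := hH.plus_expand h4 hQw hQe haw hbw hae hbe hwe (app g₂ w)
    have pa : ∀ x, B (app g₂ x) a = B x a := fun x => by
      conv_lhs => rw [← h2a]
      rw [← hH.polar, polar_app, hH.polar]
    have pb : ∀ x, B (app g₂ x) b = B x b := fun x => by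
      conv_lhs => rw [← h2b]
      rw [← hH.polar, polar_app, hH.polar]
    rw [pa, pb, hB.comm w a, haw, hB.comm w b, hbw, zero_smul, zero_smul, zero_add,
      zero_add] at ex
    have hq := congrArg Q ex
    rw [Q_app, hQw, quad_add hH.polar, quad_smul, quad_smul, hQw, hQe] at hq
    simp [hwe] at hq
    have ee := hH.plus_expand h4 hQw hQe haw hbw hae hbe hwe (app g₂ e)
    rw [pa, pb, hB.comm e a, hae, hB.comm e b, hbe, zero_smul, zero_smul, zero_add,
      zero_add] at ee
    have hqe := congrArg Q ee
    rw [Q_app, hQe, quad_add hH.polar, quad_smul, quad_smul, hQw, hQe] at hqe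
    simp [hwe] at hqe
    have hpair : B (app g₂ w) (app g₂ e) = 1 := by
      rw [← hH.polar, polar_app, hH.polar, hwe]
    rw [ex, ee] at hpair
    simp [hB.self, hwe, hB.comm e w] at hpair
    set α := B (app g₂ w) e
    set β := B (app g₂ w) w
    set γ := B (app g₂ e) e
    set δ := B (app g₂ e) w
    obtain hβ | hβ := hf β
    · obtain hα | hα := hf α
      · rw [hα, hβ] at hpair; simp at hpair
      have hδ : δ = 1 := by rw [hα, hβ] at hpair; simpa using hpair
      have hγ : γ = 0 := hqe.resolve_left (by rw [hδ]; exact one_ne_zero)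
      rw [show g₂ = 1 from ext_app fun x => by
        rw [app_one]
        conv_lhs => rw [hH.plus_expand h4 hQw hQe haw hbw hae hbe hwe x]
        conv_rhs => rw [hH.plus_expand h4 hQw hQe haw hbw hae hbe hwe x]
        simp only [map_add, map_smul, h2a, h2b, ex, ee, hα, hβ, hγ, hδ, zero_smul, one_smul,
          add_zero, zero_add]]
      exact one_mem _
    · have hα : α = 0 := hq.resolve_left (by rw [hβ]; exact one_ne_zero)
      have hγ : γ = 1 := by rw [hα, hβ] at hpair; simpa using hpair
      have hδ : δ = 0 := hqe.resolve_right (by rw [hγ]; exact one_ne_zero)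
      have hQ1 : Q (w + e) = 1 := by rw [quad_add hH.polar, hQw, hQe, hwe]; simp
      rw [show g₂ = refl Q (w + e) from ext_app fun x => by
        conv_lhs => rw [hH.plus_expand h4 hQw hQe haw hbw hae hbe hwe x]
        conv_rhs => rw [hH.plus_expand h4 hQw hQe haw hbw hae hbe hwe x]
        have hew : B e w = 1 := by rw [hB.comm]; exact hwe
        simp only [map_add, map_smul, h2a, h2b, ex, ee, hα, hβ, hγ, hδ, zero_smul, one_smul,
          add_zero, zero_add, app_refl, hQ1, hH.polar, haw, hae, hbw, hbe, hB.self, hwe, hew,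
          sub_eq_add', inv_one, one_mul, smul_zero, add_smul]
        funext i
        simp only [Pi.add_apply, Pi.smul_apply, smul_eq_mul]
        linear_combination -(B x e * w i + B x w * e i) * CharTwo.two_eq_zero (R := F)]
      exact hH.refl_mem_extend _
  have hh' : h' ∈ hH.extend := Or.inl hh
  have hk' : k ∈ hH.extend := Or.inl (hH.mem_left (hB.proj_perp hH.pair y).1)
  rw [show g = h' * (k * g₂) by rw [hg₂, mul_inv_cancel_left, hg₁, mul_inv_cancel_left]]
  exact mul_mem hh' (mul_mem hk' mem2)

/-- The parity relation of totally singular planes. -/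
theorem plus_parity {U W X : Submodule F (ι → F)} (hU : Module.finrank F U = 2 ∧ ∀ x ∈ U, Q x = 0)
    (hW : Module.finrank F W = 2 ∧ ∀ x ∈ W, Q x = 0)
    (hX : Module.finrank F X = 2 ∧ ∀ x ∈ X, Q x = 0)
    (h1 : Even (Module.finrank F ↥(U ⊓ W))) (h2 : Even (Module.finrank F ↥(W ⊓ X))) :
    Even (Module.finrank F ↥(U ⊓ X)) := by
  have hm : Module.finrank F (ι → F) = 2 * 2 := by
    rw [Module.finrank_fintype_fun_eq_card, h4]
  have h := lagrangian_parity Q hH.nondeg hm hU.2 hW.2 hX.2 hU.1 hW.1 hX.1
  have l1 := Submodule.finrank_mono (inf_le_left : U ⊓ W ≤ U)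
  have l2 := Submodule.finrank_mono (inf_le_left : W ⊓ X ≤ W)
  have l3 := Submodule.finrank_mono (inf_le_left : U ⊓ X ≤ U)
  rw [hU.1] at l1 l3
  rw [hW.1] at l2
  rw [Nat.even_iff] at *
  omega

theorem plus_dickson {g : O Q} (hg : g ∈ hH.eO) : dickson g = 1 := by
  classical
  have hB := hH.alt
  -- isometries mapping every plane into its class
  let good : O Q → Prop := fun g => ∀ U : Submodule F (ι → F), Module.finrank F U = 2 →
    (∀ x ∈ U, Q x = 0) → Even (Module.finrank F ↥(U ⊓ U.map (app g)))
  have mapts : ∀ (g : O Q) (U : Submodule F (ι → F)), Module.finrank F U = 2 →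
      (∀ x ∈ U, Q x = 0) →
      Module.finrank F (U.map (app g)) = 2 ∧ ∀ x ∈ U.map (app g), Q x = 0 := fun g U hU hUs =>
    ⟨(Submodule.equivMapOfInjective _ (app_injective g) U).finrank_eq.symm.trans hU, by
      rintro _ ⟨x, hx, rfl⟩; rw [Q_app]; exact hUs x hx⟩
  have gmul : ∀ g h, good g → good h → good (g * h) := by
    intro g h hg hh U hU hUs
    obtain ⟨hU1, hU1s⟩ := mapts h U hU hUs
    have e : U.map (app (g * h)) = (U.map (app h)).map (app g) := by
      rw [← Submodule.map_comp]
      congr 1
      exact LinearMap.ext fun x => app_mul g h x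
    rw [e]
    exact hH.plus_parity h4 hQw hQe haw hbw hae hbe hwe ⟨hU, hUs⟩ ⟨hU1, hU1s⟩
      (mapts g _ hU1 hU1s) (hh U hU hUs) (hg _ hU1 hU1s)
  have gfix : ∀ (g : O Q) (U₀ : Submodule F (ι → F)), Module.finrank F U₀ = 2 →
      (∀ x ∈ U₀, Q x = 0) → (∀ x ∈ U₀, app g x = x) → good g := by
    intro g U₀ hU₀ hU₀s hfix U hU hUs
    have e0 : U₀.map (app g) = U₀ := le_antisymm
      (by rintro _ ⟨x, hx, rfl⟩; rw [hfix x hx]; exact hx) fun x hx => ⟨x, hx, hfix x hx⟩
    have hg1 := mapts g U hU hUs
    by_cases hp : Even (Module.finrank F ↥(U ⊓ U₀))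
    · refine hH.plus_parity h4 hQw hQe haw hbw hae hbe hwe ⟨hU, hUs⟩ ⟨hU₀, hU₀s⟩ hg1 hp ?_
      have e : U₀ ⊓ U.map (app g) = (U₀ ⊓ U).map (app g) := by
        rw [Submodule.map_inf _ (app_injective g), e0]
      rw [e, ← (Submodule.equivMapOfInjective _ (app_injective g) _).finrank_eq, inf_comm]
      exact hp
    · have hm : Module.finrank F (ι → F) = 2 * 2 := by
        rw [Module.finrank_fintype_fun_eq_card, h4]
      have h := lagrangian_parity Q hH.nondeg hm hUs hU₀s hg1.2 hU hU₀ hg1.1
      have e : U₀ ⊓ U.map (app g) = (U₀ ⊓ U).map (app g) := by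
        rw [Submodule.map_inf _ (app_injective g), e0]
      have he : Module.finrank F ↥(U₀ ⊓ U.map (app g)) = Module.finrank F ↥(U ⊓ U₀) := by
        rw [e, ← (Submodule.equivMapOfInjective _ (app_injective g) _).finrank_eq, inf_comm]
      have l1 := Submodule.finrank_mono (inf_le_left : U ⊓ U₀ ≤ U)
      have l3 := Submodule.finrank_mono (inf_le_left : U ⊓ U.map (app g) ≤ U)
      rw [hU] at l1 l3
      rw [he] at h
      rw [Nat.even_iff] at *
      omega
  have gone : good 1 := fun U hU _ => by
    rw [show app (1 : O Q) = LinearMap.id from LinearMap.ext app_one, Submodule.map_id, inf_idem,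
      hU]
    exact even_two
  -- the generators fix a totally singular plane
  have hgen : ∀ z v (g : O Q), z ≠ 0 → Q z = 0 → Q v = 0 → B z v = 0 →
      (g : GL ι F) = sv B z v (Q v) → good g := by
    intro z v g hz0 hz hv hzv hg
    by_cases hind : ∀ t : F, v ≠ t • z
    swap
    · push Not at hind
      obtain ⟨t, rfl⟩ := hind
      rw [show g = 1 from Subtype.ext (by
        rw [hg, hv, Subgroup.coe_one]
        have h2 := sv_add_smul hB (z := z) (v := 0) (by simp) t 0
        rwa [zero_add, sv_zero hB] at h2)]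
      exact gone
    refine gfix g (Submodule.span F (Set.range ![z, v])) ?_ ?_ ?_
    · rw [finrank_span_eq_card ((LinearIndependent.pair_iff' hz0).2 fun t => (hind t).symm),
        Fintype.card_fin]
    · intro x hx
      rw [Matrix.range_cons_cons_empty, Submodule.mem_span_pair] at hx
      obtain ⟨s, t, rfl⟩ := hx
      rw [quad_add hH.polar, quad_smul, quad_smul, hz, hv]
      simp [hzv]
    · intro x hx
      rw [Matrix.range_cons_cons_empty, Submodule.mem_span_pair] at hx
      obtain ⟨s, t, rfl⟩ := hx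
      rw [app_eq_ap, hg, hv, ap_sv hB hzv]
      simp [hB.self, hzv, hB.comm v z]
  have hwb : B w b = 0 := by rw [hB.comm]; exact hbw
  have heb : B e b = 0 := by rw [hB.comm]; exact hbe
  have hwa : B w a = 0 := by rw [hB.comm]; exact haw
  have hea : B e a = 0 := by rw [hB.comm]; exact hae
  have hside : ∀ z v (hzQ : Q z = 0) (hmem : ∀ u, B z u = 0 → sv B z u (Q u) ∈ O Q),
      z ≠ 0 → B z w = 0 → B z e = 0 → B z v = 0 →
      (∀ u, B z u = 0 → ∃ r : F, u = r • z + B u e • w + B u w • e) →
      ∀ g : O Q, (g : GL ι F) = sv B z v (Q v) → good g := by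
    intro z v hzQ hmem hz0 hzw hze hzv hdec g hg
    obtain ⟨r, hr⟩ := hdec v hzv
    have h1 : B z (r • z + B v e • w) = 0 := by simp [hB.self, hzw]
    have h2 : B z (B v w • e) = 0 := by simp [hze]
    have hwz : B w z = 0 := by rw [hB.comm]; exact hzw
    have q1 : Q (r • z + B v e • w) = 0 := by
      rw [quad_add hH.polar, quad_smul, quad_smul, hzQ, hQw]
      simp [hzw]
    have q2 : Q (B v w • e) = 0 := by rw [quad_smul, hQe]; simp
    rw [show g = (⟨_, hmem _ h1⟩ : O Q) * ⟨_, hmem _ h2⟩ from Subtype.ext (by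
      show (g : GL ι F) = sv B z _ _ * sv B z _ _
      rw [sv_mul hB h1 h2, ← hr, q1, q2, zero_add, zero_add, hg]
      congr 1
      conv_lhs => rw [hr]
      rw [quad_add hH.polar, q1, q2, zero_add, zero_add])]
    exact gmul _ _ (hgen z _ _ hz0 hzQ q1 h1 rfl) (hgen z _ _ hz0 hzQ q2 h2 rfl)
  have ha0 : a ≠ 0 := fun h => by have := hH.pair; rw [h] at this; simp at this
  have hb0 : b ≠ 0 := fun h => by have := hH.pair; rw [h] at this; simp at this
  have good_all : ∀ x ∈ eGroup B Q a b, ∀ hx : x ∈ O Q, good ⟨x, hx⟩ := by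
    intro x hx
    induction hx using Subgroup.closure_induction with
    | mem x hx =>
      intro hxO
      obtain ⟨v, ⟨hv, rfl⟩ | ⟨hv, rfl⟩⟩ := hx
      · exact hside a v hH.left (fun u hu => hH.eGroup_le (hH.mem_left hu)) ha0 haw hae hv
          (fun u hu => ⟨B u b, by
            conv_lhs => rw [hH.plus_expand h4 hQw hQe haw hbw hae hbe hwe u, hB.comm u a, hu,
              zero_smul, add_zero]⟩) _ rfl
      · exact hside b v hH.right (fun u hu => hH.eGroup_le (hH.mem_right hu)) hb0 hbw hbe hv
          (fun u hu => ⟨B u a, by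
            conv_lhs => rw [hH.plus_expand h4 hQw hQe haw hbw hae hbe hwe u, hB.comm u b, hu,
              zero_smul, zero_add]⟩) _ rfl
    | one => exact fun _ => gone
    | mul x y hx hy ihx ihy =>
      exact fun _ => gmul ⟨x, hH.eGroup_le hx⟩ ⟨y, hH.eGroup_le hy⟩ (ihx _) (ihy _)
    | inv x hx ih =>
      intro hxO U hU hUs
      obtain ⟨h1, h1s⟩ := mapts ⟨x⁻¹, hxO⟩ U hU hUs
      have h2 := ih (hH.eGroup_le hx) _ h1 h1s
      have e : (U.map (app (⟨x⁻¹, hxO⟩ : O Q))).map (app (⟨x, hH.eGroup_le hx⟩ : O Q)) = U := by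
        rw [← Submodule.map_comp]
        conv_rhs => rw [← U.map_id]
        congr 1
        exact LinearMap.ext fun y => ap_ap_inv x y
      rw [e, inf_comm] at h2
      exact h2
  -- compare with the Dickson invariant
  suffices key : ∀ g : O Q, good g ↔ dickson g = 1 from
    (key g).1 (good_all _ (hH.mem_eO.1 hg) g.2)
  intro g
  induction hk : Fintype.card ι - Module.finrank F (fixS g) using Nat.strong_induction_on
    generalizing g with
  | _ k IH =>
  subst hk
  let U₁ := Submodule.span F (Set.range ![a, w])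
  have hU₁ : Module.finrank F U₁ = 2 := by
    rw [finrank_span_eq_card ((LinearIndependent.pair_iff' ha0).2 fun t ht => by
      have h1 := congrArg (fun x => B x e) ht
      simp [hae, hwe] at h1), Fintype.card_fin]
  have hU₁s : ∀ x ∈ U₁, Q x = 0 := by
    intro x hx
    simp only [U₁, Matrix.range_cons_cons_empty, Submodule.mem_span_pair] at hx
    obtain ⟨s, t, rfl⟩ := hx
    rw [quad_add hH.polar, quad_smul, quad_smul, hH.left, hQw]
    simp [haw]
  by_cases hts : ∃ v ∈ movS g, Q v ≠ 0
  · obtain ⟨v, hm, hv⟩ := hts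
    have h1 := finrank_fix_of_mem hH.nondeg hv hm
    have h2 := finrank_fix_le_card (refl Q v * g)
    have ih := IH _ (by omega) (refl Q v * g) rfl
    rw [dickson_refl_mul hH.nondeg hv] at ih
    have flip : ∀ U : Submodule F (ι → F), Module.finrank F U = 2 → (∀ x ∈ U, Q x = 0) →
        (Even (Module.finrank F ↥(U ⊓ U.map (app (refl Q v * g)))) ↔
          ¬ Even (Module.finrank F ↥(U ⊓ U.map (app g)))) := by
      intro U hU hUs
      obtain ⟨h3, h3s⟩ := mapts g U hU hUs
      have e : U.map (app (refl Q v * g)) = (U.map (app g)).map (app (refl Q v)) := by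
        rw [← Submodule.map_comp]
        congr 1
        exact LinearMap.ext fun x => app_mul _ g x
      rw [e]
      rcases CfsgLib.OrthOmega.finrank_inf_refl hH.nondeg (m := 2) (by omega) hU h3 hUs h3s hv
        with h | h <;> rw [h, Nat.even_add_one] <;> simp
    have hd : dickson g = 1 ↔ ¬ (-dickson g = 1) := by
      rcases Int.units_eq_one_or (dickson g) with h | h <;> rw [h] <;> decide
    rw [hd, ← ih]
    constructor
    · exact fun hg hr => (flip U₁ hU₁ hU₁s).1 (hr U₁ hU₁ hU₁s) (hg U₁ hU₁ hU₁s)
    · intro hr U hU hUs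
      by_contra hne
      refine hr fun V hV hVs => ?_
      rw [flip V hV hVs]
      intro hVe
      apply hne
      -- the parity does not depend on the plane
      have hm : Module.finrank F (ι → F) = 2 * 2 := by
        rw [Module.finrank_fintype_fun_eq_card, h4]
      obtain ⟨hUg, hUgs⟩ := mapts g U hU hUs
      obtain ⟨hVg, hVgs⟩ := mapts g V hV hVs
      have p1 := lagrangian_parity Q hH.nondeg hm hUs hVs hVgs hU hV hVg
      have p2 := lagrangian_parity Q hH.nondeg hm hUs hVgs hUgs hU hVg hUg
      have e : Module.finrank F ↥(V.map (app g) ⊓ U.map (app g)) =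
          Module.finrank F ↥(U ⊓ V) := by
        rw [← Submodule.map_inf _ (app_injective g),
          ← (Submodule.equivMapOfInjective _ (app_injective g) _).finrank_eq, inf_comm]
      have l1 := Submodule.finrank_mono (inf_le_left : U ⊓ V ≤ U)
      have l2 := Submodule.finrank_mono (inf_le_left : V ⊓ V.map (app g) ≤ V)
      have l3 := Submodule.finrank_mono (inf_le_left : U ⊓ V.map (app g) ≤ U)
      have l4 := Submodule.finrank_mono (inf_le_left : U ⊓ U.map (app g) ≤ U)
      rw [hU] at l1 l3 l4
      rw [hV] at l2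
      rw [e] at p2
      rw [Nat.even_iff] at *
      omega
  push Not at hts
  have h2le := two_finrank_le hH.nondeg hts
  have hrk := LinearMap.finrank_range_add_finrank_ker
    ((LinearMap.id : (ι → F) →ₗ[F] (ι → F)) - app g)
  rw [Module.finrank_fintype_fun_eq_card, h4] at hrk
  change Module.finrank F (movS g) + Module.finrank F (fixS g) = 4 at hrk
  have hcases : Module.finrank F (movS g) = 0 ∨ Module.finrank F (movS g) = 1 ∨
      Module.finrank F (movS g) = 2 := by omega
  rcases hcases with hd | hd | hd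
  · have hg1 : g = 1 := ext_app fun x => by
      have h0 := Submodule.finrank_eq_zero.1 hd
      have h1 : x - app g x ∈ movS g := mem_movS.2 ⟨x, rfl⟩
      rw [h0, Submodule.mem_bot, sub_eq_zero] at h1
      rw [app_one, ← h1]
    subst hg1
    exact iff_of_true gone dickson_one
  · exfalso
    obtain ⟨r, hr0, hr⟩ := finrank_eq_one_iff'.1 hd
    have key : ∀ x, B x (r : ι → F) ≠ 0 → app g x = x := fun x hx => by
      obtain ⟨c, hc⟩ := hr ⟨x - app g x, mem_movS.2 ⟨x, rfl⟩⟩
      have hc' : c • (r : ι → F) = x - app g x := congrArg Subtype.val hc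
      have h1 := Q_mov g x
      rw [← hc', quad_smul, hts r r.2, mul_zero, hH.polar, map_smul, smul_eq_mul, eq_comm,
        mul_eq_zero] at h1
      have h2 := h1.resolve_right hx
      rw [h2, zero_smul, eq_comm, sub_eq_zero] at hc'
      exact hc'.symm
    obtain ⟨x₀, hx₀⟩ := hB.exists_one (a := (r : ι → F)) (fun h => hr0 (Subtype.ext h))
    rw [hB.comm] at hx₀
    refine hr0 (Subtype.ext ?_)
    have hall : ∀ x, app g x = x := fun x => by
      by_cases hx : B x (r : ι → F) = 0
      · have := key (x + x₀) (by simp [hx, hx₀])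
        rw [map_add, key x₀ (by simp [hx₀])] at this
        exact add_right_cancel this
      · exact key x hx
    obtain ⟨y, hy⟩ := mem_movS.1 r.2
    rw [← hy, hall, sub_self]; rfl
  · refine iff_of_true (gfix g (movS g) hd hts fun x hx => ?_) ?_
    · rw [← mem_fixS, fixS_eq hH.nondeg,
        CfsgLib.OrthOmega.orthogonal_of_maximal hH.nondeg (m := 2) (by omega) hd hts]
      exact hx
    · rw [dickson, show Fintype.card ι - Module.finrank F (fixS g) = 2 by omega]
      simp

end HPair

end CfsgLib.TwoTransSp
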