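import Cfsg.Agent.Lib.TwoTransSp.Four
import Cfsg.Agent.Lib.LargeExtra.Basic

/-!
The 2-core of a point stabiliser consists of elements `sv a v c`; a large subgroup of it without
transvections makes the point a full centre.
-/

set_option autoImplicit false
set_option linter.unusedSectionVars false
set_option linter.unusedSimpArgs false

namespace CfsgLib.TwoTransSp

variable {ι : Type} [Fintype ι] [DecidableEq ι] {F : Type*} [Field F] [CharP F 2] [Fintype F]
  {B : LinearMap.BilinForm F (ι → F)} {L : Subgroup (GL ι F)}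

/-- The 2-core of the stabiliser of `a` is trivial on `a⊥` modulo `a`. -/
theorem Alt.core_trivial (hB : Alt B) (h4 : 4 ≤ Fintype.card ι) {a : ι → F} (ha : a ≠ 0)
    {H : Subgroup (GL ι F)} (hH : ∀ g, g ∈ H ↔ Iso B g ∧ ap g a = a) {g : GL ι F}
    (hg : g ∈ (Cfsg.pCore 2 ↥H).map H.subtype) :
    ∀ y, B a y = 0 → ∃ t : F, ap g y = y + t • a := by
  classical
  have : Fact (Nat.Prime 2) := ⟨Nat.prime_two⟩
  obtain ⟨g, hgN, rfl⟩ := hg
  set N := Cfsg.pCore 2 ↥H with hN
  have hNn : N.Normal := CfsgLib.LargeExtra.pCore_normal' 2 _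
  let W : Submodule F (ι → F) := LinearMap.ker (B a)
  let A : Submodule F W := Submodule.span F {⟨a, by simp [W, hB.self]⟩}
  have hWinv : ∀ h : H, ∀ x ∈ W, ap (h : GL ι F) x ∈ W := by
    intro h x hx
    rw [LinearMap.mem_ker] at hx ⊢
    obtain ⟨hi, hfix⟩ := (hH h).1 h.2
    rw [← hx]
    conv_lhs => rw [← hfix]
    exact hi a x
  let res : H → (W →ₗ[F] W) := fun h => (ap (h : GL ι F)).restrict (hWinv h)
  have hAinv : ∀ h : H, A ≤ A.comap (res h) := by
    intro h
    refine Submodule.span_le.2 ?_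
    rintro _ rfl
    refine Submodule.mem_comap.2 ?_
    have e : res h ⟨a, by simp [W, hB.self]⟩ = ⟨a, by simp [W, hB.self]⟩ :=
      Subtype.ext ((hH h).1 h.2).2
    rw [e]
    exact Submodule.subset_span rfl
  let act : H → (W ⧸ A) →ₗ[F] (W ⧸ A) := fun h => A.mapQ A (res h) (hAinv h)
  let _ : MulAction N (W ⧸ A) :=
    { smul := fun k x => act k.1 x
      one_smul := fun x => Submodule.Quotient.induction_on _ x fun w =>
        congrArg Submodule.Quotient.mk (Subtype.ext (ap_one (w : ι → F)))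
      mul_smul := fun k l x => Submodule.Quotient.induction_on _ x fun w =>
        congrArg Submodule.Quotient.mk (Subtype.ext (ap_mul _ _ (w : ι → F))) }
  -- vectors of `W` fixed by `N` modulo `a`
  let Fx : (ι → F) → Prop := fun y => ∀ k ∈ N, ∃ t : F, ap (k : GL ι F) y = y + t • a
  have Fadd : ∀ {y y'}, Fx y → Fx y' → Fx (y + y') := fun {y y'} h h' k hk => by
    obtain ⟨t, ht⟩ := h k hk
    obtain ⟨t', ht'⟩ := h' k hk
    exact ⟨t + t', by rw [map_add, ht, ht', add_smul]; abel⟩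
  have Finv : ∀ {y}, Fx y → ∀ h : H, Fx (ap (h : GL ι F) y) := fun {y} hy h k hk => by
    obtain ⟨t, ht⟩ := hy (h⁻¹ * k * h) (by simpa using hNn.conj_mem k hk h⁻¹)
    refine ⟨t, ?_⟩
    calc ap (k : GL ι F) (ap (h : GL ι F) y)
        = ap (h : GL ι F) (ap (((h⁻¹ * k * h : H)) : GL ι F) y) := by
          simp [← ap_mul, mul_assoc]
      _ = ap (h : GL ι F) y + t • a := by rw [ht, map_add, map_smul, ((hH h).1 h.2).2]
  obtain ⟨b, hab⟩ := hB.exists_one ha
  obtain ⟨u, hu0, hau, hbu⟩ := hB.exists_perp_pair h4 a b hab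
  have hne : (Submodule.Quotient.mk (⟨u, by simpa [W] using hau⟩ : W) : W ⧸ A) ≠ 0 := by
    rw [Ne, Submodule.Quotient.mk_eq_zero, Submodule.mem_span_singleton]
    rintro ⟨t, ht⟩
    have h1 : t • a = u := congrArg Subtype.val ht
    apply hu0
    rw [← h1, map_smul, hB.comm b a, hab, smul_eq_mul, mul_one] at hbu
    rw [← h1, hbu, zero_smul]
  have hdvd : 2 ∣ Nat.card (W ⧸ A) := by
    have h2 : addOrderOf (Submodule.Quotient.mk (⟨u, by simpa [W] using hau⟩ : W) : W ⧸ A) = 2 :=
      addOrderOf_eq_prime (by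
        rw [two_nsmul, ← Submodule.Quotient.mk_add]
        exact congrArg Submodule.Quotient.mk (Subtype.ext (two_smul_eq_zero u))) hne
    rw [← h2]
    exact addOrderOf_dvd_natCard _
  have h0mem : (0 : W ⧸ A) ∈ MulAction.fixedPoints N (W ⧸ A) := fun k => map_zero (act k.1)
  obtain ⟨m, hm, hm0⟩ :=
    (CfsgLib.LargeExtra.pCore_isPGroup' 2 ↥H).exists_fixed_point_of_prime_dvd_card_of_fixed_point
      (W ⧸ A) hdvd h0mem
  obtain ⟨y₀, rfl⟩ := Submodule.Quotient.mk_surjective A m
  have hy₀ : B a (y₀ : ι → F) = 0 := LinearMap.mem_ker.1 y₀.2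
  have hFy₀ : Fx y₀ := by
    intro k hk
    have h1 : (Submodule.Quotient.mk (res k y₀) : W ⧸ A) = Submodule.Quotient.mk y₀ :=
      hm ⟨k, hk⟩
    rw [Submodule.Quotient.eq, Submodule.mem_span_singleton] at h1
    obtain ⟨t, ht⟩ := h1
    refine ⟨t, ?_⟩
    have h2 : t • a = ap (k : GL ι F) y₀ - y₀ := congrArg Subtype.val ht
    rw [h2]
    abel
  have hind : ∀ t : F, (y₀ : ι → F) ≠ t • a := fun t ht => hm0 (by
    refine ((Submodule.Quotient.mk_eq_zero A).2 (Submodule.mem_span_singleton.2 ⟨t, ?_⟩)).symm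
    exact Subtype.ext ht.symm)
  have hone : ∀ w, B a w = 0 → B (y₀ : ι → F) w = 1 → Fx w := by
    intro w haw hyw
    have hm : sv B w 0 1 ∈ H := (hH _).2 ⟨iso_sv hB (by simp) 1, by
      simp [ap_sv hB (show B w 0 = 0 by simp), haw]⟩
    have h1 := Fadd (Finv hFy₀ ⟨_, hm⟩) hFy₀
    simp only [ap_sv hB (show B w 0 = 0 by simp), map_zero, smul_zero, zero_smul, add_zero,
      hyw, mul_one, one_smul] at h1
    rwa [add_right_comm, two_smul_eq_zero, zero_add] at h1
  obtain ⟨w₁, hw₁, hyw₁⟩ := hB.exists_zero_one hind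
  have hall : ∀ w, B a w = 0 → Fx w := by
    intro w haw
    rcases eq_or_ne (B (y₀ : ι → F) w) 1 with h | h
    · exact hone w haw h
    have hw2 : ∀ w, B a w = 0 → B (y₀ : ι → F) w = 0 → Fx w := fun w haw h0 => by
      have h1 := Fadd (hone (w + w₁) (by simp [haw, hw₁]) (by simp [h0, hyw₁]))
        (hone w₁ hw₁ hyw₁)
      rwa [add_assoc, two_smul_eq_zero, add_zero] at h1
    rcases eq_or_ne (B (y₀ : ι → F) w) 0 with h0 | h0
    · exact hw2 w haw h0
    -- scale to pairing one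
    set r := B (y₀ : ι → F) w
    have h1 : Fx (r⁻¹ • w) := hone _ (by simp [haw]) (by simp [r, h0])
    intro k hk
    obtain ⟨t, ht⟩ := h1 k hk
    refine ⟨r * t, ?_⟩
    have h2 : w = r • r⁻¹ • w := by rw [smul_smul, mul_inv_cancel₀ h0, one_smul]
    conv_lhs => rw [h2, map_smul, ht, smul_add, ← h2, smul_smul]
  exact fun y hy => hall y hy g hgN

/-- `sv a 0 c` is a transvection for `c ≠ 0`. -/
theorem Alt.rank_sv_zero (hB : Alt B) {a : ι → F} (ha : a ≠ 0) {c : F} (hc : c ≠ 0) :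
    ((sv B a 0 c : Matrix ι ι F) - 1).rank = 1 := by
  obtain ⟨b, hab⟩ := hB.exists_one ha
  have e : Matrix.mulVecLin ((sv B a 0 c : Matrix ι ι F) - 1) =
      (c • B.flip a).smulRight a := LinearMap.ext fun x => by
    have h := ap_sv hB (show B a 0 = 0 by simp) c x
    rw [ap_apply] at h
    rw [Matrix.mulVecLin_apply, Matrix.sub_mulVec, Matrix.one_mulVec, h]
    simp
  have hr : LinearMap.range ((c • B.flip a).smulRight a) = Submodule.span F {a} := by
    refine le_antisymm ?_ ((Submodule.span_singleton_le_iff_mem _ _).2 ?_)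
    · rintro _ ⟨x, rfl⟩
      exact Submodule.smul_mem _ _ (Submodule.subset_span rfl)
    · exact ⟨c⁻¹ • b, by simp [hB.comm b a, hab, hc]⟩
  rw [Matrix.rank, e, hr, finrank_span_singleton ha]

/-- A subgroup of order `|F| ^ (dim - 2)` of the 2-core without transvections makes `a` full. -/
theorem Setup.full_of_core (hS : Setup B L) (h4 : 4 ≤ Fintype.card ι) {a : ι → F} (ha : a ≠ 0)
    {H : Subgroup (GL ι F)} (hH : ∀ g, g ∈ H ↔ Iso B g ∧ ap g a = a)
    {X : Subgroup (GL ι F)} (hXO : X ≤ (Cfsg.pCore 2 ↥H).map H.subtype) (hXL : X ≤ L)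
    (hcard : Nat.card X = Fintype.card F ^ (Fintype.card ι - 2))
    (hntv : ∀ x ∈ X, ((x : Matrix ι ι F) - 1).rank ≠ 1) : Full B L a := by
  classical
  have hB := hS.alt
  obtain ⟨b, hab⟩ := hB.exists_one ha
  have hba : B b a = 1 := by rw [hB.comm]; exact hab
  have hXe : ∀ g ∈ X, g = sv B a (proj B a b (ap g b + b)) (B (ap g b) b) := fun g hg => by
    obtain ⟨k, hk, hkg⟩ := hXO hg
    have hgH : g ∈ H := hkg ▸ k.2
    obtain ⟨hi, hfix⟩ := (hH g).1 hgH
    exact hB.eq_sv_of_fix hi hab hfix (hB.core_trivial h4 ha hH (hXO hg))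
  let Φ : (ι → F) →ₗ[F] F × F := (B a).prod (B b)
  let ψ : X → LinearMap.ker Φ := fun g => ⟨proj B a b (ap (g : GL ι F) b + b), by
    rw [LinearMap.mem_ker]
    exact Prod.ext (hB.proj_perp hab _).1 (hB.proj_perp hab _).2⟩
  have hψ : Function.Injective ψ := by
    intro g k hgk
    have hv : proj B a b (ap (g : GL ι F) b + b) = proj B a b (ap (k : GL ι F) b + b) :=
      congrArg Subtype.val hgk
    set v := proj B a b (ap (g : GL ι F) b + b) with hvdef
    have hav : B a v = 0 := (hB.proj_perp hab _).1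
    have hg := hXe g g.2
    have hk := hXe k k.2
    rw [← hvdef] at hg
    rw [← hv] at hk
    generalize B (ap (g : GL ι F) b) b = c at hg
    generalize B (ap (k : GL ι F) b) b = d at hk
    have hm := mul_mem g.2 k.2
    rw [hg, hk, sv_mul hB hav hav, two_smul_eq_zero, hB.self, add_zero] at hm
    have hcd : c + d = 0 := by
      by_contra hne
      exact hntv _ hm (hB.rank_sv_zero ha hne)
    refine Subtype.ext ?_
    rw [hg, hk, CharTwo.add_eq_zero.1 hcd]
  have hΦ : LinearMap.range Φ = ⊤ := by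
    rw [eq_top_iff]
    rintro ⟨s, t⟩ -
    exact ⟨t • a + s • b, by simp [Φ, hab, hba, hB.self]⟩
  have hdim : Module.finrank F (LinearMap.ker Φ) = Fintype.card ι - 2 := by
    have h := Φ.finrank_range_add_finrank_ker
    rw [hΦ, finrank_top, Module.finrank_prod, Module.finrank_self,
      Module.finrank_fintype_fun_eq_card] at h
    omega
  have hbij : Function.Bijective ψ := (Nat.bijective_iff_injective_and_card ψ).2 ⟨hψ, by
    rw [hcard, Module.natCard_eq_pow_finrank (K := F) (V := LinearMap.ker Φ),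
      Nat.card_eq_fintype_card, hdim]⟩
  refine ⟨ha, fun v hv => ?_⟩
  obtain ⟨g, hg⟩ := hbij.2 ⟨proj B a b v, by
    rw [LinearMap.mem_ker]
    exact Prod.ext (hB.proj_perp hab _).1 (hB.proj_perp hab _).2⟩
  have hgv : proj B a b (ap (g : GL ι F) b + b) = proj B a b v := congrArg Subtype.val hg
  refine ⟨B (ap (g : GL ι F) b) b, ?_⟩
  have h := hXe g g.2
  rw [hgv, proj_apply, hB.comm v a, hv, zero_smul, add_zero, sv_add_smul hB hv] at h
  rw [← h]
  exact hXL g.2

end CfsgLib.TwoTransSp
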